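import Groth.Agent.HensPair.Couple
import Groth.Agent.DescentBase.ClosureRange

/-!
Maps which induce bijections, or injections, on clopen subsets.
-/

set_option autoImplicit false
set_option linter.style.haveILetI false

universe u v w v' w'

open Topology

namespace Groth.HensPair

variable {W : Type u} {Y : Type v} {Z : Type w} [TopologicalSpace W] [TopologicalSpace Y] [TopologicalSpace Z]

/-- Clopen subsets are determined by their preimages. -/
def ClopenInj (q : W → Y) : Prop :=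
  ∀ U U' : Set Y, IsClopen U → IsClopen U' → q ⁻¹' U = q ⁻¹' U' → U = U'

theorem ClopenBij.inj {q : W → Y} (h : ClopenBij q) (hq : Continuous q) : ClopenInj q :=
  fun U U' hU hU' e => (h _ (hU.preimage hq)).unique ⟨hU, rfl⟩ ⟨hU', e.symm⟩

theorem ClopenInj.of_surjective {q : W → Y} (hq : Function.Surjective q) : ClopenInj q :=
  fun _ _ _ _ e => hq.preimage_injective e

theorem ClopenBij.comp {r : W → Y} {q : Y → Z} (hq : ClopenBij q) (hqc : Continuous q) (hr : ClopenBij r)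
    (hrc : Continuous r) : ClopenBij (q ∘ r) := by
  intro V hV
  obtain ⟨U, ⟨hU, hUV⟩, -⟩ := hr V hV
  obtain ⟨T, ⟨hT, hTU⟩, -⟩ := hq U hU
  refine ⟨T, ⟨hT, by rw [Set.preimage_comp, hTU, hUV]⟩, fun T' hT' => ?_⟩
  refine hq.inj hqc _ _ hT'.1 hT ?_
  refine hr.inj hrc _ _ (hT'.1.preimage hqc) (hT.preimage hqc) ?_
  rw [← Set.preimage_comp, hT'.2, hTU, hUV]

/-- Cancelling a bijective map on the right. -/
theorem ClopenBij.of_comp_right {r : W → Y} {q : Y → Z} (hqr : ClopenBij (q ∘ r)) (hqc : Continuous q)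
    (hr : ClopenBij r) (hrc : Continuous r) : ClopenBij q := by
  intro V hV
  obtain ⟨T, ⟨hT, hTV⟩, -⟩ := hqr (r ⁻¹' V) (hV.preimage hrc)
  have hq : q ⁻¹' T = V := hr.inj hrc _ _ (hT.preimage hqc) hV hTV
  refine ⟨T, ⟨hT, hq⟩, fun T' hT' => ?_⟩
  exact hqr.inj (hqc.comp hrc) _ _ hT'.1 hT (by rw [Set.preimage_comp, Set.preimage_comp, hT'.2, hq])

/-- Cancelling a bijective map on the left. -/
theorem ClopenBij.of_comp_left {r : W → Y} {q : Y → Z} (hqr : ClopenBij (q ∘ r)) (hqc : Continuous q)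
    (hq : ClopenBij q) (hrc : Continuous r) : ClopenBij r := by
  intro V hV
  obtain ⟨T, ⟨hT, hTV⟩, -⟩ := hqr V hV
  refine ⟨q ⁻¹' T, ⟨hT.preimage hqc, hTV⟩, fun U hU => ?_⟩
  obtain ⟨T', ⟨hT', hTU⟩, -⟩ := hq U hU.1
  have : T' = T := hqr.inj (hqc.comp hrc) _ _ hT' hT (by
    rw [Set.preimage_comp, Set.preimage_comp, hTU, hU.2]
    exact hTV.symm)
  rw [← hTU, this]

theorem ClopenBij.homeomorph (e : W ≃ₜ Y) : ClopenBij e := fun V hV =>
  ⟨e.symm ⁻¹' V, ⟨hV.preimage e.symm.continuous, by ext x; simp⟩,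
    fun U hU => by rw [← hU.2]; ext x; simp⟩

/-- Commutative squares. -/
theorem ClopenBij.of_square {A : Type v'} {B : Type w'} [TopologicalSpace A] [TopologicalSpace B]
    {a : W → Y} {b : A → W} {c : B → Y} {d : A → B} (ha : Continuous a) (hb : Continuous b)
    (hc : Continuous c) (hd : Continuous d) (hbb : ClopenBij b) (hcb : ClopenBij c)
    (e : ∀ x, a (b x) = c (d x)) : ClopenBij a ↔ ClopenBij d := by
  have e' : a ∘ b = c ∘ d := funext e
  exact ⟨fun h => ClopenBij.of_comp_left (e' ▸ h.comp ha hbb hb) hc hcb hd,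
    fun h => ClopenBij.of_comp_right (e'.symm ▸ hcb.comp hc h hd) ha hbb hb⟩

/-- Surjective open maps with preconnected fibres. -/
theorem ClopenBij.of_isOpenMap {q : W → Y} (ho : IsOpenMap q) (hs : Function.Surjective q)
    (hc : ∀ y, IsPreconnected (q ⁻¹' {y})) : ClopenBij q := by
  intro V hV
  have key : q ⁻¹' (q '' V) = V := by
    refine Set.Subset.antisymm ?_ (Set.subset_preimage_image q V)
    rintro x ⟨x', hx', e⟩
    exact (hc (q x)).subset_isClopen hV ⟨x', e, hx'⟩ (rfl : q x = q x)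
  have hcompl : (q '' V)ᶜ = q '' Vᶜ := by
    ext y
    obtain ⟨x, rfl⟩ := hs y
    refine ⟨fun hy => ⟨x, fun hx => hy ⟨x, hx, rfl⟩, rfl⟩, ?_⟩
    rintro ⟨x', hx', e⟩ hy
    exact hx' (key.le (show q x' ∈ q '' V from e.symm ▸ hy))
  exact ⟨q '' V, ⟨⟨isOpen_compl_iff.1 (hcompl ▸ ho _ hV.compl.isOpen), ho _ hV.isOpen⟩, key⟩,
    fun U hU => hs.preimage_injective (hU.2.trans key.symm)⟩

/-- A space over a space with a closed point which all points specialize to is preconnected when the map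
lifts generalizations and has preconnected fibres. -/
theorem preconnectedSpace_of_generalizing {q : W → Y} (hgen : GeneralizingMap q) (hq : Continuous q)
    (c : Y) (hc : ∀ t, t ⤳ c) (hne : ∃ w, q w = c) (hfib : ∀ y, IsPreconnected (q ⁻¹' {y})) :
    PreconnectedSpace W := by
  rw [preconnectedSpace_iff_clopen]
  intro V hV
  obtain ⟨w₀, hw₀⟩ := hne
  wlog h : w₀ ∈ V generalizing V
  · rcases this Vᶜ hV.compl h with h' | h'
    · exact Or.inr (by simpa using h')
    · exact Or.inl (by simpa using h')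
  refine Or.inr (Set.eq_univ_of_forall fun w => ?_)
  obtain ⟨w', hw', e⟩ := hgen (show q w ⤳ q w₀ from hw₀ ▸ hc (q w))
  exact (hfib (q w)).subset_isClopen hV ⟨w', e, hw'.mem_open hV.isOpen h⟩ (rfl : q w = q w)

section Descent

variable {B : Type u} {B' : Type v} [TopologicalSpace B] [TopologicalSpace B'] {ι : Type w}
  {V : ι → Type u} {V' : ι → Type v} [∀ i, TopologicalSpace (V i)] [∀ i, TopologicalSpace (V' i)]
  {π : B' → B} {h : ∀ i, V i → B} {h' : ∀ i, V' i → B'} {ρ : ∀ i, V' i → V i}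

/-- Injectivity on clopens is inherited along jointly surjective families. -/
theorem ClopenInj.of_family (hs : ∀ b, ∃ i x, h i x = b) (hh : ∀ i, Continuous (h i))
    (e : ∀ i x, π (h' i x) = h i (ρ i x)) (hρ : ∀ i, ClopenInj (ρ i)) : ClopenInj π := by
  intro U U' hU hU' eU
  ext b
  obtain ⟨i, x, rfl⟩ := hs b
  have : h i ⁻¹' U = h i ⁻¹' U' := by
    refine hρ i _ _ (hU.preimage (hh i)) (hU'.preimage (hh i)) ?_
    ext y
    simp only [Set.mem_preimage, ← e]
    exact Set.ext_iff.1 eU (h' i y)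
  exact Set.ext_iff.1 this x

variable {P : ι → ι → Type u} {P' : ι → ι → Type v} [∀ i j, TopologicalSpace (P i j)]
  [∀ i j, TopologicalSpace (P' i j)] {p₁ : ∀ i j, P i j → V i} {p₂ : ∀ i j, P i j → V j}
  {p₁' : ∀ i j, P' i j → V' i} {p₂' : ∀ i j, P' i j → V' j} {ρ₂ : ∀ i j, P' i j → P i j}

/-- Bijectivity on clopens descends along families which are quotient maps. -/
theorem ClopenBij.of_family (hq : ∀ U : Set B, (∀ i, IsOpen (h i ⁻¹' U)) → IsOpen U)
    (hs : ∀ b, ∃ i x, h i x = b) (hs' : ∀ b, ∃ i x, h' i x = b)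
    (hh : ∀ i, Continuous (h i)) (hh' : ∀ i, Continuous (h' i))
    (e : ∀ i x, π (h' i x) = h i (ρ i x))
    (hP : ∀ i j x y, h i x = h j y → ∃ z, p₁ i j z = x ∧ p₂ i j z = y)
    (hp₁ : ∀ i j, Continuous (p₁ i j)) (hp₂ : ∀ i j, Continuous (p₂ i j))
    (e₁ : ∀ i j z, p₁ i j (ρ₂ i j z) = ρ i (p₁' i j z)) (e₂ : ∀ i j z, p₂ i j (ρ₂ i j z) = ρ j (p₂' i j z))
    (e' : ∀ i j z, h' i (p₁' i j z) = h' j (p₂' i j z))
    (hρ : ∀ i, ClopenBij (ρ i)) (hρc : ∀ i, Continuous (ρ i)) (hρ₂ : ∀ i j, ClopenInj (ρ₂ i j)) :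
    ClopenBij π := by
  intro A hA
  choose U hU' huniq using fun i => hρ i (h' i ⁻¹' A) (hA.preimage (hh' i))
  have hU : ∀ i, IsClopen (U i) := fun i => (hU' i).1
  have hUA : ∀ i, ρ i ⁻¹' U i = h' i ⁻¹' A := fun i => (hU' i).2
  have hcompat : ∀ i j x y, h i x = h j y → (x ∈ U i ↔ y ∈ U j) := by
    intro i j x y hxy
    obtain ⟨z, rfl, rfl⟩ := hP i j x y hxy
    have : p₁ i j ⁻¹' U i = p₂ i j ⁻¹' U j := by
      refine hρ₂ i j _ _ ((hU i).preimage (hp₁ i j)) ((hU j).preimage (hp₂ i j)) ?_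
      ext w
      simp only [Set.mem_preimage, e₁, e₂]
      rw [← Set.mem_preimage (f := ρ i), hUA, ← Set.mem_preimage (f := ρ j), hUA]
      simp only [Set.mem_preimage, e']
    exact Set.ext_iff.1 this z
  let T : Set B := ⋃ i, h i '' U i
  have hT : ∀ i, h i ⁻¹' T = U i := fun i => by
    ext x
    refine ⟨fun hx => ?_, fun hx => Set.mem_iUnion.2 ⟨i, x, hx, rfl⟩⟩
    obtain ⟨j, y, hy, hxy⟩ := Set.mem_iUnion.1 hx
    exact (hcompat j i y x hxy).1 hy
  refine ⟨T, ⟨⟨isOpen_compl_iff.1 (hq _ fun i => ?_), hq _ fun i => hT i ▸ (hU i).isOpen⟩, ?_⟩,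
    fun T' hT' => ?_⟩
  · rw [Set.preimage_compl, hT]
    exact (hU i).isClosed.isOpen_compl
  · ext b
    obtain ⟨i, x, rfl⟩ := hs' b
    rw [Set.mem_preimage, e, ← Set.mem_preimage, hT, ← Set.mem_preimage, hUA]
    rfl
  · have hT2 : ∀ i, h i ⁻¹' T' = U i := fun i => huniq i _ ⟨hT'.1.preimage (hh i), by
      rw [← hT'.2]
      ext x
      simp only [Set.mem_preimage, e]⟩
    ext b
    obtain ⟨i, x, rfl⟩ := hs b
    rw [← Set.mem_preimage, hT2, ← hT]
    rfl

end Descent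

end Groth.HensPair

namespace Groth.HensPair

open AlgebraicGeometry CategoryTheory

/-- Clopens extend uniquely from a retrocompact open whose trace on the generalizations of every point is
connected. -/
theorem clopenBij_of_generalizations {V T : Scheme.{u}} (j : V ⟶ T) [IsOpenImmersion j] [QuasiCompact j]
    (hne : ∀ z : T, ∃ w : V, j w ⤳ z) (hconn : ∀ z : T, _root_.IsPreconnected {w : V | j w ⤳ z}) :
    ClopenBij j.base := by
  intro A hA
  let G : Set V → Set T := fun A => {z | ∃ w ∈ A, j w ⤳ z}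
  have hsub : ∀ {A : Set V}, IsClopen A → ∀ (z : T) (w : V), z ∈ G A → j w ⤳ z → w ∈ A := by
    rintro A hA z w ⟨w', hw', h'⟩ h
    exact (hconn z).subset_isClopen hA ⟨w', h', hw'⟩ h
  have hcompl : ∀ {A : Set V}, IsClopen A → (G A)ᶜ = G Aᶜ := by
    intro A hA
    ext z
    refine ⟨fun hz => ?_, fun ⟨w, hw, h⟩ hz => hw (hsub hA z w hz h)⟩
    obtain ⟨w, hw⟩ := hne z
    exact ⟨w, fun h => hz ⟨w, h, hw⟩, hw⟩
  have hclosed : ∀ {A : Set V}, IsClopen A → IsClosed (G A) := by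
    intro A hA
    let O : V.Opens := ⟨A, hA.isOpen⟩
    haveI : QuasiCompact O.ι := ⟨fun K _ hK => by
      rw [O.ι.isOpenEmbedding.isInducing.isCompact_iff, Set.image_preimage_eq_inter_range,
        Scheme.Opens.range_ι]
      exact hK.inter_right hA.isClosed⟩
    refine isClosed_of_closure_subset fun z hz => ?_
    have hrange : G A ⊆ closure (Set.range (O.ι ≫ j)) := fun z' ⟨w, hw, h⟩ => by
      refine mem_closure_iff.2 fun o ho hz' => ⟨j w, h.mem_open ho hz', ⟨⟨w, hw⟩, ?_⟩⟩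
      exact Scheme.Hom.comp_apply _ _ _
    obtain ⟨y, hy⟩ := Groth.DescentBase.exists_specializes_of_mem_closure_range (O.ι ≫ j)
      (closure_minimal hrange isClosed_closure hz)
    rw [Scheme.Hom.comp_apply] at hy
    exact ⟨_, y.2, hy⟩
  refine ⟨G A, ⟨⟨hclosed hA, isClosed_compl_iff.1 ((hcompl hA).symm ▸ hclosed hA.compl)⟩, ?_⟩, fun U hU => ?_⟩
  · ext w
    exact ⟨fun h => hsub hA _ w h specializes_rfl, fun h => ⟨w, h, specializes_rfl⟩⟩
  · ext z
    obtain ⟨w, hw⟩ := hne z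
    constructor
    · intro hz
      exact ⟨w, hU.2.le (hw.mem_open hU.1.isOpen hz), hw⟩
    · rintro ⟨w', hw', h⟩
      exact h.mem_closed hU.1.isClosed (hU.2.ge hw')

end Groth.HensPair
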