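import Groth.Agent.ZeroAcyclic.StageSection
import Groth.Agent.ZeroAcyclic.ClopenSections
import Groth.Agent.ZeroAcyclic.Proper.Clopen
import Groth.Prelude.Def_CohProp

/-!
Sheaves of sets whose stalks are given by finitely many global sections, and their descent along maps
inducing bijections on clopen subsets.
-/

set_option autoImplicit false
set_option backward.isDefEq.respectTransparency.types false
set_option linter.style.haveILetI false

universe u

open CategoryTheory CategoryTheory.Limits AlgebraicGeometry Opposite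

namespace Groth.ZeroAcyclic

open Groth.EtaleBase (fiberPoint geomPoint geomPoint_apply openObj openHom mem_topology_iff)
open Groth.EtaleShriek.FlatConnBC
open Groth.EtaleShriek.BCSets (sg sg_res)
open Groth.DescentBase (shStalk shStalkPullIso shGerm shGerm_surjective shGerm_eq_iff agreeSet
  isOpen_agreeSet shGerm_eq_iff_mem shSection_ext)

variable {X A : Scheme.{u}}

/-- The map to the terminal étale scheme. -/
noncomputable def toTop (U : X.Etale) : U ⟶ EtCoh.top X :=
  MorphismProperty.Over.homMk U.hom (Category.comp_id _)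

/-- The global sections `c i` give all stalks of `G` without repetition. -/
def ConstBasis (G : EtDesc.Sh X) {ι : Type u} (c : ι → G.obj.obj (op (EtCoh.top X))) : Prop :=
  ∀ (K : Type u) [Field K] [IsSepClosed K] (ξ : Spec (CommRingCat.of K) ⟶ X),
    Function.Bijective fun i => sg G ξ (EtCoh.top X) ξ (Category.comp_id _) (c i)

section

variable {G : EtDesc.Sh X} {ι : Type u} {c : ι → G.obj.obj (op (EtCoh.top X))} (hc : ConstBasis G c)

lemma sg_toTop (U : X.Etale) (i : ι) {K : Type u} [Field K] [IsSepClosed K]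
    (ξ : Spec (CommRingCat.of K) ⟶ X) (l : Spec (CommRingCat.of K) ⟶ U.left) (hl : l ≫ U.hom = ξ) :
    sg G ξ U l hl (G.obj.map (toTop U).op (c i)) = sg G ξ (EtCoh.top X) ξ (Category.comp_id _) (c i) :=
  sg_res G ξ (toTop U) l hl ξ (Category.comp_id _) hl (c i)

/-- Where a section is equal to a basic section. -/
def part (U : X.Etale) (s : G.obj.obj (op U)) (i : ι) : Set U.left :=
  agreeSet G U s (G.obj.map (toTop U).op (c i))

lemma mem_part_iff (U : X.Etale) (s : G.obj.obj (op U)) (i : ι) {K : Type u} [Field K] [IsSepClosed K]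
    (ξ : Spec (CommRingCat.of K) ⟶ X) (l : Spec (CommRingCat.of K) ⟶ U.left) (hl : l ≫ U.hom = ξ) :
    l default ∈ part (c := c) U s i ↔
      sg G ξ U l hl s = sg G ξ (EtCoh.top X) ξ (Category.comp_id _) (c i) := by
  rw [← sg_toTop (G := G) (c := c) U i ξ l hl]
  exact (shGerm_eq_iff_mem ξ G U s _ (Over.homMk l hl)).symm

include hc in
lemma existsUnique_part (U : X.Etale) (s : G.obj.obj (op U)) (x : U.left) :
    ∃! i, x ∈ part (c := c) U s i := by
  let l := geomPoint (X := U.left) x
  have key := fun i => mem_part_iff (G := G) (c := c) U s i (l ≫ U.hom) l rfl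
  rw [geomPoint_apply x default] at key
  obtain ⟨i, hi⟩ := (hc _ (l ≫ U.hom)).2 (sg G (l ≫ U.hom) U l rfl s)
  exact ⟨i, (key i).2 hi.symm, fun j hj => (hc _ (l ≫ U.hom)).1 (((key j).1 hj).symm.trans hi.symm)⟩

lemma isOpen_part (U : X.Etale) (s : G.obj.obj (op U)) (i : ι) : IsOpen (part (c := c) U s i) :=
  isOpen_agreeSet _ _ _ _

include hc in
lemma isClopen_part (U : X.Etale) (s : G.obj.obj (op U)) (i : ι) :
    IsClopen (part (c := c) U s i) := by
  refine ⟨isOpen_compl_iff.1 (isOpen_iff_forall_mem_open.2 fun x hx => ?_), isOpen_part U s i⟩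
  obtain ⟨j, hj, -⟩ := existsUnique_part hc U s x
  refine ⟨part (c := c) U s j, fun y hy hyi => hx ?_, isOpen_part U s j, hj⟩
  rwa [(existsUnique_part hc U s y).unique hyi hy]

include hc in
/-- Agreement loci are clopen. -/
theorem isClopen_agreeSet (U : X.Etale) (s₁ s₂ : G.obj.obj (op U)) : IsClopen (agreeSet G U s₁ s₂) := by
  refine ⟨isOpen_compl_iff.1 (isOpen_iff_forall_mem_open.2 fun x hx => ?_), isOpen_agreeSet _ _ _ _⟩
  obtain ⟨i, hi, -⟩ := existsUnique_part hc U s₁ x
  obtain ⟨j, hj, -⟩ := existsUnique_part hc U s₂ x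
  refine ⟨part (c := c) U s₁ i ∩ part (c := c) U s₂ j, fun y hy hy' => hx ?_,
    (isOpen_part U s₁ i).inter (isOpen_part U s₂ j), hi, hj⟩
  let l := geomPoint (X := U.left) y
  let m := geomPoint (X := U.left) x
  have e1 := (shGerm_eq_iff_mem (l ≫ U.hom) G U s₁ s₂ (Over.homMk l rfl)).2 (by
    show l default ∈ _
    rw [geomPoint_apply y default]; exact hy')
  have a₁ := (mem_part_iff (G := G) (c := c) U s₁ i (l ≫ U.hom) l rfl).1
    (by rw [geomPoint_apply y default]; exact hy.1)
  have a₂ := (mem_part_iff (G := G) (c := c) U s₂ j (l ≫ U.hom) l rfl).1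
    (by rw [geomPoint_apply y default]; exact hy.2)
  obtain rfl : i = j := (hc _ (l ≫ U.hom)).1 (a₁.symm.trans (e1.trans a₂))
  have b₁ := (mem_part_iff (G := G) (c := c) U s₁ i (m ≫ U.hom) m rfl).1
    (by rw [geomPoint_apply x default]; exact hi)
  have b₂ := (mem_part_iff (G := G) (c := c) U s₂ i (m ≫ U.hom) m rfl).1
    (by rw [geomPoint_apply x default]; exact hj)
  have b := (shGerm_eq_iff_mem (m ≫ U.hom) G U s₁ s₂ (Over.homMk m rfl)).1 (b₁.trans b₂.symm)
  exact Set.mem_of_eq_of_mem (geomPoint_apply x default).symm b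

end

/-- The map of terminal objects under base change. -/
noncomputable def topBc (m : A ⟶ X) : EtCoh.top A ⟶ (EtCoh.bc m).obj (EtCoh.top X) :=
  MorphismProperty.Over.homMk (pullback.lift m (𝟙 A) ((Category.comp_id _).trans (Category.id_comp _).symm))
    (pullback.lift_snd _ _ _)

/-- The pulled back sections. -/
noncomputable def pullC {G : EtDesc.Sh X} {ι : Type u} (m : A ⟶ X) (c : ι → G.obj.obj (op (EtCoh.top X)))
    (i : ι) : ((EtDesc.pullSh m).obj G).obj.obj (op (EtCoh.top A)) :=
  ((EtDesc.pullSh m).obj G).obj.map (topBc m).op (un m G (EtCoh.top X) (c i))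

lemma sg_pullC {G : EtDesc.Sh X} {ι : Type u} (m : A ⟶ X) (c : ι → G.obj.obj (op (EtCoh.top X))) (i : ι)
    {K : Type u} [Field K] [IsSepClosed K] (ξ : Spec (CommRingCat.of K) ⟶ A) :
    sg ((EtDesc.pullSh m).obj G) ξ (EtCoh.top A) ξ (Category.comp_id _) (pullC m c i) =
      (shStalkPullIso m ξ).hom.app G (sg G (ξ ≫ m) (EtCoh.top X) (ξ ≫ m) (Category.comp_id _) (c i)) := by
  rw [stalkPullIso_sg]
  refine sg_res _ ξ (topBc m) ξ (Category.comp_id _) _ (pullback.lift_snd _ _ _) ?_ _
  refine pullback.hom_ext ?_ ?_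
  · exact ((Category.assoc _ _ _).trans (congrArg (ξ ≫ ·) (pullback.lift_fst _ _ _))).trans
      (pullback.lift_fst _ _ _).symm
  · exact (((Category.assoc _ _ _).trans (congrArg (ξ ≫ ·) (pullback.lift_snd _ _ _))).trans
      (Category.comp_id ξ)).trans (pullback.lift_snd _ _ _).symm

theorem ConstBasis.pull {G : EtDesc.Sh X} {ι : Type u} {c : ι → G.obj.obj (op (EtCoh.top X))}
    (hc : ConstBasis G c) (m : A ⟶ X) : ConstBasis ((EtDesc.pullSh m).obj G) (pullC m c) := by
  intro K _ _ ξ
  have hb : Function.Bijective ((shStalkPullIso m ξ).hom.app G) :=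
    (isIso_iff_bijective _).1 inferInstance
  convert hb.comp (hc K (ξ ≫ m)) using 1
  funext i
  exact sg_pullC m c i ξ

/-- The sections of a constant sheaf. -/
noncomputable def constC (X : Scheme.{u}) {ι : Type u} {M : Type (u + 1)} (e : ι ≃ M) (i : ι) :
    (CohProp.constSh X M).obj.obj (op (EtCoh.top X)) :=
  (CategoryTheory.toSheafify X.smallEtaleTopology
    ((Functor.const X.Etaleᵒᵖ).obj M)).app (op (EtCoh.top X)) (e i)

theorem constBasis_constSh (X : Scheme.{u}) {ι : Type u} {M : Type (u + 1)} (e : ι ≃ M) :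
    ConstBasis (CohProp.constSh X M) (constC X e) := by
  intro K _ _ ξ
  let P := (Functor.const X.Etaleᵒᵖ).obj M
  let η := CategoryTheory.toSheafify X.smallEtaleTopology P
  let C := CohProp.constSh X M
  have hnat : ∀ {W V : X.Etale} (k : W ⟶ V) (a : M),
      C.obj.map k.op (η.app (op V) a) = η.app (op W) a := fun k a =>
    (NatTrans.naturality_apply η k.op a).symm
  constructor
  · intro i j h
    obtain ⟨W, g, s, -, he⟩ := (shGerm_eq_iff ξ C (EtCoh.top X) _ _ _).1 h
    have h1 : η.app (op W) (e i) = η.app (op W) (e j) :=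
      (hnat g (e i)).symm.trans (he.trans (hnat g (e j)))
    have hmem := Presheaf.equalizerSieve_mem X.smallEtaleTopology η (X := op W) (e i) (e j) h1
    obtain ⟨V, k, v, hk, -⟩ := (mem_topology_iff _).1 hmem (fiberPoint ξ s)
    exact e.injective hk
  · intro z
    obtain ⟨U, t, σ, rfl⟩ := shGerm_surjective ξ C z
    have hmem := Presheaf.imageSieve_mem X.smallEtaleTopology η (U := op U) σ
    obtain ⟨V, k, v, ⟨a, ha⟩, hv⟩ := (mem_topology_iff _).1 hmem (fiberPoint ξ t)
    obtain ⟨s, hs, -⟩ := Groth.EtaleBase.exists_fiber_lift ξ k t v hv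
    refine ⟨e.symm a, ?_⟩
    show sg C ξ (EtCoh.top X) ξ (Category.comp_id _) (η.app _ (e (e.symm a))) = shGerm ξ C U t σ
    rw [e.apply_symm_apply, ← hs]
    refine Eq.trans ?_ ((Scheme.pointSmallEtale ξ).toPresheafFiber_w_apply k s C.obj σ)
    refine Eq.trans ?_ (congrArg (shGerm ξ C V s) ha)
    rw [← hnat (toTop V) a]
    exact (sg_res C ξ (toTop V) s.left (Over.w s) ξ (Category.comp_id _) (Over.w s) _).symm

section descent

variable {G : EtDesc.Sh X} {ι : Type u} [Finite ι] {c : ι → G.obj.obj (op (EtCoh.top X))}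

/-- Sections of the inverse image descend. -/
theorem exists_descent_of_clopenBij (hc : ConstBasis G c) (m : A ⟶ X)
    (hm : Groth.HensPair.ClopenBij m.base)
    (x : ((EtDesc.pullSh m).obj G).obj.obj (op (EtCoh.top A))) :
    ∃ y : G.obj.obj (op (EtCoh.top X)), ∀ (K : Type u) [Field K] [IsSepClosed K]
      (p : Spec (CommRingCat.of K) ⟶ (EtCoh.top A).left), Rel m G x p (EtCoh.top X) (p ≫ m) y := by
  have hc' := hc.pull m
  choose B hB huniq using fun i => hm (part (c := pullC m c) (EtCoh.top A) x i) (isClopen_part hc' _ x i)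
  have hBc : ∀ i, IsClopen (B i) := fun i => (hB i).1
  have hBe : ∀ i, m.base ⁻¹' B i = part (c := pullC m c) (EtCoh.top A) x i := fun i => (hB i).2
  have hinj := hm.inj m.continuous
  have hdisj : ∀ i j, i ≠ j → B i ∩ B j = ∅ := fun i j hij => by
    refine hinj _ _ ((hBc i).inter (hBc j)) isClopen_empty ?_
    refine Set.eq_empty_of_forall_notMem (s := m.base ⁻¹' (B i ∩ B j)) ?_ |>.trans Set.preimage_empty.symm
    intro a ha
    exact hij ((existsUnique_part hc' _ x a).unique ((hBe i).le ha.1) ((hBe j).le ha.2))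
  have hcov : (⋃ i, B i) = Set.univ := by
    refine hinj _ _ (isClopen_iUnion_of_finite hBc) isClopen_univ ?_
    refine Set.eq_univ_of_forall fun a => ?_
    obtain ⟨i, hi, -⟩ := existsUnique_part hc' _ x a
    exact Set.mem_iUnion.2 ⟨i, (hBe i).ge hi⟩
  let O : ι → (EtCoh.top X).left.Opens := fun i => ⟨B i, (hBc i).isOpen⟩
  let W : ι → X.Etale := fun i => openObj (EtCoh.top X) (O i)
  let b : ∀ i, W i ⟶ EtCoh.top X := fun i => openHom (EtCoh.top X) (O i)
  obtain ⟨y, hy⟩ := exists_glue_points G W b (fun z => by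
    obtain ⟨i, hi⟩ := Set.mem_iUnion.1 (hcov.ge (Set.mem_univ z))
    exact ⟨i, (⟨z, hi⟩ : ↥(O i)), rfl⟩) (fun i => G.obj.map (b i).op (c i))
    (fun i j K _ _ li lj h he => by
      obtain rfl : i = j := by
        by_contra hij
        have h1 : (li ≫ (b i).left) default ∈ B i := by
          rw [Scheme.Hom.comp_apply]; exact (li default).2
        have h2 : (li ≫ (b i).left) default ∈ B j := by
          rw [he, Scheme.Hom.comp_apply]; exact (lj default).2
        exact (hdisj i j hij).le ⟨h1, h2⟩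
      obtain rfl : li = lj := (cancel_mono (O i).ι).1 he
      rfl)
  refine ⟨y, fun K _ _ p => ?_⟩
  let ξ : Spec (CommRingCat.of K) ⟶ A := p
  obtain ⟨i, hi, -⟩ := existsUnique_part hc' (EtCoh.top A) x (p default)
  have hx := (mem_part_iff (c := pullC m c) (EtCoh.top A) x i (p ≫ (EtCoh.top A).hom) p rfl).1 hi
  have r₁ := rel_map (e := m) (F := G) (topBc m) (c i) p
  rw [show p ≫ (topBc m).left ≫ pullback.fst (EtCoh.top X).hom m = p ≫ m from
    congrArg (p ≫ ·) (pullback.lift_fst _ _ _)] at r₁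
  obtain ⟨hl, h₁⟩ := r₁
  have r₂ : Rel m G x p (EtCoh.top X) (p ≫ m) (c i) := by
    refine ⟨hl, hx.trans (Eq.trans ?_ h₁)⟩
    exact sg_congr _ _ (Category.comp_id p) _ _ _
  let n := p ≫ m
  have hn : n default ∈ O i := by
    show (p ≫ m) default ∈ B i
    rw [Scheme.Hom.comp_apply]
    exact (hBe i).ge hi
  let Oi : X.Opens := O i
  let jO : Oi.toScheme ⟶ X := Oi.ι
  haveI : IsOpenImmersion jO := inferInstanceAs (IsOpenImmersion Oi.ι)
  let l₀ : Spec (CommRingCat.of K) ⟶ Oi.toScheme := IsOpenImmersion.lift jO n (by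
    refine (Scheme.Opens.range_ι Oi).symm ▸ ?_
    rintro _ ⟨q, rfl⟩
    rwa [Subsingleton.elim q default])
  let l : Spec (CommRingCat.of K) ⟶ (W i).left := l₀
  have hl' : l ≫ (b i).left = n := IsOpenImmersion.lift_fac jO n _
  refine r₂.of_sg_eq (n ≫ (EtCoh.top X).hom) rfl rfl ?_
  have hw : l ≫ (W i).hom = n ≫ (EtCoh.top X).hom :=
    (congrArg (l ≫ ·) (MorphismProperty.Over.w (b i)).symm).trans
      ((Category.assoc _ _ _).symm.trans (congrArg (· ≫ (EtCoh.top X).hom) hl'))
  exact (sg_res G _ (b i) l hw n rfl hl' (c i)).symm.trans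
    ((congrArg _ (hy i).symm).trans (sg_res G _ (b i) l hw n rfl hl' y))

end descent

end Groth.ZeroAcyclic
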