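import Groth.Agent.ZeroAcyclic.BaseChange
import Groth.Agent.ZeroAcyclic.Proper.ConstBasis

/-!
The criterion for base change in degree zero of sheaves with constant stalks.
-/

set_option autoImplicit false
set_option backward.isDefEq.respectTransparency.types false
set_option linter.style.haveILetI false
set_option linter.unusedSectionVars false

universe u

open CategoryTheory CategoryTheory.Limits AlgebraicGeometry Opposite IsLocalRing
open Groth.EtaleBase Groth.EtaleBase.EtLimit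

namespace Groth.ZeroAcyclic

open Groth.EtaleShriek.FlatConnBC
open Groth.EtaleShriek.BCSets (sg sg_res P2 pr₁ pr₂)
open Groth.DescentBase (agreeSet isOpen_agreeSet shGerm_eq_iff_mem map_eq_iff_range_subset)

variable {X S Y T : Scheme.{u}} {f : X ⟶ S} {g : T ⟶ S} [QuasiCompact g] [QuasiSeparated g]
  {h : Y ⟶ X} {e : Y ⟶ T} (c : IsPullback e h g f) (F : EtDesc.Sh T)
  {RS RX : Type u} [CommRing RS] [CommRing RX] [HenselianLocalRing RS] [HenselianLocalRing RX]
  [IsSepClosed (ResidueField RS)] [IsSepClosed (ResidueField RX)]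
  {Ω : Type u} [Field Ω] [IsAlgClosed Ω] {η : Spec (CommRingCat.of Ω) ⟶ X}
  (σS : Spec (CommRingCat.of RS) ⟶ S) [WeaklyEtale σS] (σX : Spec (CommRingCat.of RX) ⟶ X) [WeaklyEtale σX]
  (ψ : RS →+* RX) [IsLocalHom ψ] (ρ' : RX →+* Ω) [IsLocalHom ρ']
  (hν : Spec.map (CommRingCat.ofHom ψ) ≫ σS = σX ≫ f)
  (hX : locPt RX ρ' ≫ σX = η) (hS : locPt RS (ρ'.comp ψ) ≫ σS = η ≫ f)

variable {ι : Type u} {cb : ι → F.obj.obj (op (EtCoh.top T))} (hc : ConstBasis F cb)

include σS σX hν hX hS hc in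
/-- Sections agreeing on a neighbourhood agree near the point below. -/
theorem inj_of_clopen (hm : Groth.HensPair.ClopenInj (mLoc c σS σX ψ hν).base) : Inj c F η := by
  intro W V a ha w σ₁ σ₂ hval
  let t := spt η a ha w
  let m := mLoc c σS σX ψ hν
  let A : (pullback V.hom g).Opens :=
    ⟨agreeSet F ((EtCoh.bc g).obj V) σ₁ σ₂, isOpen_agreeSet _ _ _ _⟩
  obtain ⟨V', d, t', ht, -, hd⟩ := exists_nbhd_le RS (ρ'.comp ψ) σS (η ≫ f) hS g V t A fun z => by
    let k₀ := toNbhd RS (ρ'.comp ψ) σS (η ≫ f) hS g V t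
    suffices hall : ∀ z' : ↥(pullback h σX), k₀ (m z') ∈ A from
      (hm (k₀ ⁻¹' A.carrier) Set.univ
        (IsClopen.preimage (s := A.carrier) (isClopen_agreeSet hc _ σ₁ σ₂) k₀.continuous) isClopen_univ
        (Set.eq_univ_of_forall (fun z' => hall z'))).ge (Set.mem_univ z)
    intro z'
    let m' := geomPoint z' ≫ toNbhd RX ρ' σX η hX h W w
    have h1 := (shGerm_eq_iff_mem _ F _ σ₁ σ₂ (Over.homMk (m' ≫ mu c a ha) rfl)).1 (hval _ m')
    refine Set.mem_of_eq_of_mem ?_ h1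
    show _ = (m' ≫ mu c a ha) default
    refine Eq.trans ?_ (congrArg (fun k : Spec (CommRingCat.of _) ⟶ pullback V.hom g => k default)
      (Category.assoc _ _ _)).symm
    refine Eq.trans ?_ (congrArg (fun k : pullback h σX ⟶ pullback V.hom g =>
      (geomPoint z' ≫ k) default) (toNbhd_mu c σS σX ψ ρ' hν hX hS a ha w)).symm
    simp only [Scheme.Hom.comp_apply]
    rw [geomPoint_apply]
    rfl
  refine ⟨V', d, t', ht, (map_eq_iff_range_subset F _ σ₁ σ₂).2 ?_⟩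
  rintro _ ⟨y, rfl⟩
  exact hd y

variable [Finite ι]

include σS σX hν hX hS hc in
set_option maxHeartbeats 1600000 in
/-- Sections of the inverse image come, near a point, from sections below. -/
theorem surj_of_clopen (hm : Groth.HensPair.ClopenBij (mLoc c σS σX ψ hν).base) : Surj c F η := by
  intro W w x
  haveI : QuasiCompact h := MorphismProperty.of_isPullback (P := @QuasiCompact) c inferInstance
  haveI : QuasiSeparated h := MorphismProperty.of_isPullback (P := @QuasiSeparated) c inferInstance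
  let m := mLoc c σS σX ψ hν
  let aS := pullback.fst g σS
  let aY := pullback.fst h σX
  have haS : m ≫ aS = aY ≫ e := mLoc_fst c σS σX ψ hν
  let q : pullback h σX ⟶ ((EtCoh.bc h).obj W).left := toNbhd RX ρ' σX η hX h W w
  have hq : q ≫ ((EtCoh.bc h).obj W).hom = (EtCoh.top (pullback h σX)).hom ≫ aY :=
    (evPt_hom h RX ρ' σX η hX _ _ _ W w).trans (Category.id_comp _).symm
  obtain ⟨x', hx'⟩ := exists_transfer (e := e) (F := F) aY (aY ≫ e) rfl _ x (EtCoh.top (pullback h σX)) q hq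
  obtain ⟨x₂, hx₂⟩ := exists_rel₂ (e := aS) m (aY ≫ e) haS (EtCoh.top (pullback h σX)) x'
  obtain ⟨y, hy⟩ := exists_descent_of_clopenBij (hc.pull aS) m hm x₂
  obtain ⟨V, t, s, hs⟩ := exists_stage_section RS (ρ'.comp ψ) σS (η ≫ f) hS g F y
  -- values of `x`
  have hxy : ∀ (K : Type u) [Field K] [IsSepClosed K] (pX : Spec (CommRingCat.of K) ⟶ pullback h σX),
      Rel e F x (pX ≫ q) ((EtCoh.bc g).obj V)
        ((pX ≫ m) ≫ toNbhd RS (ρ'.comp ψ) σS (η ≫ f) hS g V t) s := by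
    intro K _ _ pX
    obtain ⟨W₁, g₁, l₁, τ₁, -, hR₁⟩ := exists_rel (e := e) x (V := EtCoh.top T)
      (((EtCoh.bc h).obj W).hom ≫ e) (Category.comp_id _) (pX ≫ q)
    have r₁ := hx₂ K pX W₁ l₁ τ₁ (hx' K pX W₁ l₁ τ₁ hR₁)
    have r₂ : Rel₂ aS F m x₂ pX ((EtCoh.bc g).obj V)
        ((pX ≫ m) ≫ toNbhd RS (ρ'.comp ψ) σS (η ≫ f) hS g V t) s :=
      (hy K pX).trans (hs K (pX ≫ m))
    have e₂ : ((pX ≫ m) ≫ toNbhd RS (ρ'.comp ψ) σS (η ≫ f) hS g V t) ≫ ((EtCoh.bc g).obj V).hom =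
        l₁ ≫ W₁.hom := r₂.1.trans r₁.1.symm
    exact hR₁.of_sg_eq (l₁ ≫ W₁.hom) rfl e₂ (r₁.sg_eq r₂ (l₁ ≫ W₁.hom) rfl e₂)
  -- a common neighbourhood
  let B := (EtCoh.bc f).obj V
  let U₀ := P2 W B
  let b : (Scheme.pointSmallEtale η).fiber.obj B := pushLift f η rfl V t
  let u₀ : (Scheme.pointSmallEtale η).fiber.obj U₀ :=
    Over.homMk (pullback.lift w.left b.left ((Over.w w).trans (Over.w b).symm))
      ((Category.assoc _ _ _).symm.trans ((congrArg (· ≫ W.hom) (pullback.lift_fst _ _ _)).trans (Over.w w)))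
  let r₀ : U₀ ⟶ W := pr₁ W B
  have hr₀ : (Scheme.pointSmallEtale η).fiber.map r₀ u₀ = w :=
    Over.OverMorphism.ext (pullback.lift_fst _ _ _)
  let a₀ : U₀.left ⟶ V.left := (pr₂ W B).left ≫ pullback.fst V.hom f
  have ha₀ : a₀ ≫ V.hom = U₀.hom ≫ f :=
    (Category.assoc _ _ _).trans ((congrArg ((pr₂ W B).left ≫ ·) pullback.condition).trans
      ((Category.assoc _ _ _).symm.trans (congrArg (· ≫ f) (MorphismProperty.Over.w (pr₂ W B)))))
  have ht₀ : spt η a₀ ha₀ u₀ = t := by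
    apply Over.OverMorphism.ext
    show u₀.left ≫ a₀ = t.left
    refine (Category.assoc _ _ _).symm.trans ?_
    exact (congrArg (· ≫ pullback.fst V.hom f) (pullback.lift_snd _ _ _)).trans (pullback.lift_fst _ _ _)
  let G := (EtDesc.pullSh e).obj F
  let x₀ := G.obj.map ((EtCoh.bc h).map r₀).op x
  let y₀ := img c F a₀ ha₀ s
  let A : (pullback U₀.hom h).Opens :=
    ⟨agreeSet G ((EtCoh.bc h).obj U₀) x₀ y₀, isOpen_agreeSet _ _ _ _⟩
  let qU : pullback h σX ⟶ ((EtCoh.bc h).obj U₀).left := toNbhd RX ρ' σX η hX h U₀ u₀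
  have hqr : qU ≫ ((EtCoh.bc h).map r₀).left = q := evPt_map h RX ρ' σX η hX _ _ _ r₀ u₀ hr₀
  have hqm : qU ≫ mu c a₀ ha₀ = m ≫ toNbhd RS (ρ'.comp ψ) σS (η ≫ f) hS g V t := by
    rw [← ht₀]
    exact toNbhd_mu c σS σX ψ ρ' hν hX hS a₀ ha₀ u₀
  obtain ⟨U, d, u, hu, -, hd⟩ := exists_nbhd_le RX ρ' σX η hX h U₀ u₀ A fun z => by
    let pX := geomPoint z
    let mU := pX ≫ qU
    have hx₀ : Rel e F x₀ mU ((EtCoh.bc g).obj V) (mU ≫ mu c a₀ ha₀) s := by
      rw [rel_src]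
      have h1 : mU ≫ ((EtCoh.bc h).map r₀).left = pX ≫ q :=
        (Category.assoc _ _ _).trans (congrArg (pX ≫ ·) hqr)
      have h2 : mU ≫ mu c a₀ ha₀ = (pX ≫ m) ≫ toNbhd RS (ρ'.comp ψ) σS (η ≫ f) hS g V t :=
        ((Category.assoc _ _ _).trans (congrArg (pX ≫ ·) hqm)).trans (Category.assoc _ _ _).symm
      rw [h1, h2]
      exact hxy _ pX
    obtain ⟨_, h₁⟩ := hx₀
    obtain ⟨_, h₂⟩ := rel_img c F a₀ ha₀ s mU
    have h3 := (shGerm_eq_iff_mem _ G _ x₀ y₀ (Over.homMk mU rfl)).1 (h₁.trans h₂.symm)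
    refine Set.mem_of_eq_of_mem ?_ h3
    show _ = mU default
    refine ((Scheme.Hom.comp_apply _ _ _).trans ?_).symm
    exact congrArg _ (geomPoint_apply z _)
  let a : U.left ⟶ V.left := d.left ≫ a₀
  have ha : a ≫ V.hom = U.hom ≫ f :=
    (Category.assoc _ _ _).trans ((congrArg (d.left ≫ ·) ha₀).trans
      ((Category.assoc _ _ _).symm.trans (congrArg (· ≫ f) (MorphismProperty.Over.w d))))
  refine ⟨U, d ≫ r₀, u, V, a, ha, s, ?_, fun K _ _ mU' => ?_⟩
  · rw [Functor.map_comp, ConcreteCategory.comp_apply, hu, hr₀]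
  let mU := mU' ≫ ((EtCoh.bc h).map d).left
  have hμ : mu c a ha = ((EtCoh.bc h).map d).left ≫ mu c a₀ ha₀ := by
    apply pullback.hom_ext
    · refine (pullback.lift_fst _ _ _).trans (Eq.trans ?_ ((Category.assoc _ _ _).trans
        (congrArg (_ ≫ ·) (pullback.lift_fst _ _ _))).symm)
      exact ((Category.assoc _ _ _).symm.trans (congrArg (· ≫ a₀) (pullback.lift_fst _ _ _).symm)).trans
        (Category.assoc _ _ _)
    · refine (pullback.lift_snd _ _ _).trans (Eq.trans ?_ ((Category.assoc _ _ _).trans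
        (congrArg (_ ≫ ·) (pullback.lift_snd _ _ _))).symm)
      exact (congrArg (· ≫ e) (MorphismProperty.Over.w ((EtCoh.bc h).map d)).symm).trans
        (Category.assoc _ _ _)
  have hmem : (mU default : ((EtCoh.bc h).obj U₀).left) ∈ agreeSet G ((EtCoh.bc h).obj U₀) x₀ y₀ :=
    hd (mU' default)
  have hg := (shGerm_eq_iff_mem (mU ≫ ((EtCoh.bc h).obj U₀).hom) G _ x₀ y₀ (Over.homMk mU rfl)).2 hmem
  obtain ⟨hl, h₂⟩ := rel_img c F a₀ ha₀ s mU
  have r : Rel e F x₀ mU ((EtCoh.bc g).obj V) (mU ≫ mu c a₀ ha₀) s := ⟨hl, hg.trans h₂⟩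
  rw [rel_src] at r
  have e3 : mU' ≫ ((EtCoh.bc h).map (d ≫ r₀)).left = mU ≫ ((EtCoh.bc h).map r₀).left := by
    rw [Functor.map_comp]
    exact (Category.assoc _ _ _).symm
  rw [e3, hμ, ← Category.assoc]
  exact r


end Groth.ZeroAcyclic
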