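import Groth.Agent.ZeroAcyclic.Proper.Spread
import Groth.Agent.ZeroAcyclic.Proper.ConstBC

/-!
Generic cohomological propriety in degree zero of constant sheaves with finite values.
-/

set_option autoImplicit false
set_option backward.isDefEq.respectTransparency.types false
set_option linter.style.haveILetI false

universe u

open CategoryTheory CategoryTheory.Limits AlgebraicGeometry TopologicalSpace Opposite Topology

namespace Groth.ZeroAcyclic.Proper

variable {X Y T : Scheme.{u}}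

theorem subset_image_preimage (b : Y ⟶ T) (O : T.Opens) (O₂ : (O : Scheme.{u}).Opens) :
    ((b ⁻¹ᵁ (O.ι ''ᵁ O₂) : Y.Opens) : Set Y) ⊆
      (b ⁻¹ᵁ O).ι '' (((b ∣_ O) ⁻¹ᵁ O₂ : (b ⁻¹ᵁ O : Scheme.{u}).Opens) : Set _) := by
  rintro y ⟨o, ho, hy⟩
  have hy' : y ∈ b ⁻¹ᵁ O := by
    show b y ∈ O
    exact Set.mem_of_eq_of_mem hy.symm o.2
  refine ⟨⟨y, hy'⟩, ?_, rfl⟩
  have : (b ∣_ O) ⟨y, hy'⟩ = o := O.ι.isOpenEmbedding.injective (by
    rw [← Scheme.Hom.comp_apply, morphismRestrict_ι]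
    exact hy.symm)
  show (b ∣_ O) ⟨y, hy'⟩ ∈ O₂
  exact this.symm ▸ ho

/-- Injectivity of separated morphisms over a nonempty open. -/
theorem exists_injOn_separated [IsAffine T] [IsNoetherian T] [IrreducibleSpace T] (b : Y ⟶ T) [IsAffine Y]
    [LocallyOfFiniteType b] (f : X ⟶ Y) [LocallyOfFiniteType f] [QuasiCompact f] [IsSeparated f] :
    ∃ O : T.Opens, (O : Set T).Nonempty ∧ InjOn f b (b ⁻¹ᵁ O) := by
  obtain ⟨O, hO, -, ⟨C⟩⟩ := exists_chart b f
  refine ⟨O, hO, ?_⟩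
  have h1 : InjOn (f ∣_ (b ⁻¹ᵁ O)) (b ∣_ O) Set.univ :=
    injOn_of_family (fun _ : PUnit.{u + 1} => C.hX) (fun x => ⟨⟨⟩, C.hX.surjective x⟩)
      fun _ D _ => (C.clopenBij D).inj (Scheme.Hom.continuous _)
  refine (h1.image (b ⁻¹ᵁ O).ι O.ι (b ∣_ O) (morphismRestrict_ι b O).symm
    (isPullback_morphismRestrict f (b ⁻¹ᵁ O)).flip).mono ?_
  rw [Set.image_univ, Scheme.Opens.range_ι]

/-- Bijectivity of separated morphisms over a nonempty open. -/
theorem exists_bijOn_separated [IsAffine T] [IsNoetherian T] [IrreducibleSpace T] (b : Y ⟶ T) [IsAffine Y]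
    [LocallyOfFiniteType b] (f : X ⟶ Y) [LocallyOfFiniteType f] [QuasiCompact f] [IsSeparated f] :
    ∃ O : T.Opens, (O : Set T).Nonempty ∧ BijOn f b (b ⁻¹ᵁ O) := by
  obtain ⟨O, hO, hOa, ⟨C⟩⟩ := exists_chart b f
  let f₁ := f ∣_ (b ⁻¹ᵁ O)
  let b₁ := b ∣_ O
  haveI : IsAffine (O : Scheme.{u}) := hOa
  haveI : CompactSpace (O : Scheme.{u}) := inferInstance
  haveI : IsNoetherian (O : Scheme.{u}) := {}
  haveI : IrreducibleSpace (O : Scheme.{u}) := by
    have h1 : IsPreirreducible (O : Set T) :=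
      (PreirreducibleSpace.isPreirreducible_univ (X := T)).open_subset O.2 (Set.subset_univ _)
    exact (Subtype.irreducibleSpace ⟨hO, h1⟩ : IrreducibleSpace ↥(O : Set T))
  haveI : IsAffineHom b := isAffineHom_of_isAffine b
  haveI : IsAffine (b ⁻¹ᵁ O : Scheme.{u}) := hOa.preimage b
  haveI : LocallyOfFiniteType b₁ :=
    MorphismProperty.of_isPullback (isPullback_morphismRestrict b O).flip ‹LocallyOfFiniteType b›
  haveI : LocallyOfFiniteType f₁ :=
    MorphismProperty.of_isPullback (isPullback_morphismRestrict f _).flip ‹LocallyOfFiniteType f›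
  haveI : QuasiCompact f₁ :=
    MorphismProperty.of_isPullback (isPullback_morphismRestrict f _).flip ‹QuasiCompact f›
  haveI : IsSeparated f₁ :=
    MorphismProperty.of_isPullback (isPullback_morphismRestrict f _).flip ‹IsSeparated f›
  let F₂ := (pullback.fst C.hX C.hX ≫ C.hX) ≫ f₁
  haveI : LocallyOfFiniteType F₂ := inferInstance
  haveI : QuasiCompact F₂ := inferInstance
  haveI : IsSeparated F₂ := inferInstance
  obtain ⟨O₂, hO₂, hinj⟩ := exists_injOn_separated b₁ F₂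
  have h1 : BijOn f₁ b₁ (b₁ ⁻¹ᵁ O₂) :=
    bijOn_of_family (fun _ : PUnit.{u + 1} => C.hX) (fun x => ⟨⟨⟩, C.hX.surjective x⟩)
      (fun α U hU => quotient_of_proper C.hX α U (hU ⟨⟩)) (fun _ D _ => C.clopenBij D) (fun _ _ => hinj)
  refine ⟨O.ι ''ᵁ O₂, hO₂.image _, ?_⟩
  exact (h1.image (b ⁻¹ᵁ O).ι O.ι b₁ (morphismRestrict_ι b O).symm
    (isPullback_morphismRestrict f (b ⁻¹ᵁ O)).flip).mono (subset_image_preimage b O O₂)

/-- Bijectivity over a nonempty open of an irreducible affine base. -/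
theorem exists_bijOn_affine [IsAffine T] [IsNoetherian T] [IrreducibleSpace T] (b : Y ⟶ T) [IsAffine Y]
    [LocallyOfFiniteType b] (f : X ⟶ Y) [LocallyOfFiniteType f] [QuasiCompact f] :
    ∃ O : T.Opens, (O : Set T).Nonempty ∧ BijOn f b (b ⁻¹ᵁ O) := by
  classical
  haveI : IsLocallyNoetherian Y := LocallyOfFiniteType.isLocallyNoetherian b
  haveI : IsLocallyNoetherian X := LocallyOfFiniteType.isLocallyNoetherian f
  haveI : CompactSpace X := QuasiCompact.compactSpace_of_compactSpace f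
  haveI : IsNoetherian X := {}
  let 𝒰 := X.affineCover.finiteSubcover
  let U : 𝒰.I₀ → Scheme.{u} := 𝒰.X
  let h : ∀ a, U a ⟶ X := 𝒰.f
  haveI : ∀ a, IsOpenImmersion (h a) := fun a => inferInstanceAs (IsOpenImmersion (𝒰.f a))
  haveI : ∀ a, IsAffine (U a) := fun a => inferInstanceAs (IsAffine (𝒰.X a))
  haveI : Finite 𝒰.I₀ := inferInstance
  have hs : ∀ x, ∃ a w, h a w = x := fun x => by
    obtain ⟨a, w, hw⟩ := 𝒰.exists_eq x
    exact ⟨a, w, hw⟩
  haveI : ∀ a, IsLocallyNoetherian (U a) := fun a => LocallyOfFiniteType.isLocallyNoetherian (h a)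
  have h1 : ∀ a, ∃ O : T.Opens, (O : Set T).Nonempty ∧ BijOn (h a ≫ f) b (b ⁻¹ᵁ O) := fun a => by
    haveI : IsAffineHom (h a ≫ f) := isAffineHom_of_isAffine _
    haveI : IsSeparated (h a ≫ f) := inferInstance
    exact exists_bijOn_separated b (h a ≫ f)
  have h2 : ∀ p : 𝒰.I₀ × 𝒰.I₀, ∃ O : T.Opens, (O : Set T).Nonempty ∧
      InjOn ((pullback.fst (h p.1) (h p.2) ≫ h p.1) ≫ f) b (b ⁻¹ᵁ O) := fun p => by
    haveI : IsAffineHom (h p.1 ≫ f) := isAffineHom_of_isAffine _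
    haveI : IsSeparated (h p.1 ≫ f) := inferInstance
    haveI : IsSeparated (pullback.fst (h p.1) (h p.2) ≫ h p.1 ≫ f) := inferInstance
    haveI : IsSeparated ((pullback.fst (h p.1) (h p.2) ≫ h p.1) ≫ f) := by
      rw [Category.assoc]; infer_instance
    haveI : QuasiCompact (pullback.fst (h p.1) (h p.2)) := inferInstance
    haveI : QuasiCompact (h p.1) := inferInstance
    exact exists_injOn_separated b _
  choose O₁ hO₁ hb using h1
  choose O₂ hO₂ hi using h2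
  obtain ⟨O, hO, hle⟩ := Groth.GenGeomRed.exists_nonempty_open_le
    (Sum.elim O₁ O₂ : 𝒰.I₀ ⊕ (𝒰.I₀ × 𝒰.I₀) → T.Opens) (by rintro (a | p); exacts [hO₁ a, hO₂ p])
  refine ⟨O, hO, bijOn_of_family h hs (fun α V hV => quotient_of_open h hs α V hV) (fun a => ?_) fun a c => ?_⟩
  · exact (hb a).mono fun y hy => hle (Sum.inl a) hy
  · exact (hi (a, c)).mono fun y hy => hle (Sum.inr (a, c)) hy

/-- Bijectivity over an open of the base in any nonempty open of a Noetherian base. -/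
theorem exists_bijOn_open {S : Scheme.{u}} [IsNoetherian S] (f : X ⟶ Y) (b : Y ⟶ S)
    [LocallyOfFiniteType f] [QuasiCompact f] [LocallyOfFiniteType b] [QuasiCompact b]
    (G : S.Opens) (hG : (G : Set S).Nonempty) :
    ∃ O : S.Opens, ((G : Set S) ∩ O).Nonempty ∧ BijOn f b (b ⁻¹ᵁ O) := by
  classical
  obtain ⟨x, hx⟩ := hG
  have hfin := TopologicalSpace.NoetherianSpace.finite_irreducibleComponents (α := S)
  let C := irreducibleComponent x
  have hC : C ∈ irreducibleComponents S := irreducibleComponent_mem_irreducibleComponents x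
  let others := irreducibleComponents S \ {C}
  let O₀ : S.Opens := ⟨(⋃₀ others)ᶜ, isOpen_compl_iff.2 (by
    rw [Set.sUnion_eq_biUnion]
    exact (hfin.subset Set.sdiff_subset).isClosed_biUnion
      fun D hD => isClosed_of_mem_irreducibleComponents D hD.1)⟩
  have hOC : (O₀ : Set S) ⊆ C := fun y hy => by
    by_contra hyC
    exact hy ⟨irreducibleComponent y, ⟨irreducibleComponent_mem_irreducibleComponents y,
      fun e => hyC (e ▸ mem_irreducibleComponent)⟩, mem_irreducibleComponent⟩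
  obtain ⟨γ, hγ⟩ := QuasiSober.sober hC.1 (isClosed_of_mem_irreducibleComponents _ hC)
  have hγG : γ ∈ (G : Set S) := (hγ.specializes mem_irreducibleComponent).mem_open G.2 hx
  have hγO : γ ∈ O₀ := by
    rintro ⟨D, ⟨hD, hDC⟩, hγD⟩
    refine hDC (subset_antisymm ?_ ?_)
    · exact hC.2 hD.1 (hγ ▸ closure_minimal (Set.singleton_subset_iff.2 hγD)
        (isClosed_of_mem_irreducibleComponents _ hD))
    · rw [← hγ]
      exact closure_minimal (Set.singleton_subset_iff.2 hγD) (isClosed_of_mem_irreducibleComponents _ hD)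
  obtain ⟨_, ⟨V, hV, rfl⟩, hγV, hVG⟩ := S.isBasis_affineOpens.exists_subset_of_mem_open
    (show γ ∈ (G ⊓ O₀ : S.Opens) from ⟨hγG, hγO⟩) (G ⊓ O₀).2
  change S.Opens at V
  haveI : IsAffine (V : Scheme.{u}) := hV
  haveI : CompactSpace (V : Scheme.{u}) := inferInstance
  haveI : IsNoetherian (V : Scheme.{u}) := {}
  haveI : IrreducibleSpace (V : Scheme.{u}) := by
    have h1 : IsPreirreducible (V : Set S) :=
      hC.1.isPreirreducible.open_subset V.2 (fun y hy => hOC (hVG hy).2)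
    exact (Subtype.irreducibleSpace ⟨⟨γ, hγV⟩, h1⟩ : IrreducibleSpace ↥(V : Set S))
  haveI : CompactSpace Y := QuasiCompact.compactSpace_of_compactSpace b
  haveI : IsLocallyNoetherian Y := LocallyOfFiniteType.isLocallyNoetherian b
  haveI : IsNoetherian Y := {}
  let bV := b ∣_ V
  haveI : LocallyOfFiniteType bV :=
    MorphismProperty.of_isPullback (isPullback_morphismRestrict b V).flip ‹LocallyOfFiniteType b›
  haveI : QuasiCompact bV :=
    MorphismProperty.of_isPullback (isPullback_morphismRestrict b V).flip ‹QuasiCompact b›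
  haveI : CompactSpace (b ⁻¹ᵁ V : Scheme.{u}) := QuasiCompact.compactSpace_of_compactSpace bV
  let 𝒰 := (b ⁻¹ᵁ V : Scheme.{u}).affineCover.finiteSubcover
  let A : 𝒰.I₀ → Scheme.{u} := 𝒰.X
  let hA : ∀ a, A a ⟶ (b ⁻¹ᵁ V : Scheme.{u}) := 𝒰.f
  haveI : ∀ a, IsOpenImmersion (hA a) := fun a => inferInstanceAs (IsOpenImmersion (𝒰.f a))
  haveI : ∀ a, IsAffine (A a) := fun a => inferInstanceAs (IsAffine (𝒰.X a))
  haveI : Finite 𝒰.I₀ := inferInstance
  have h1 : ∀ a, ∃ O : (V : Scheme.{u}).Opens, (O : Set (V : Scheme.{u})).Nonempty ∧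
      BijOn (pullback.snd f (hA a ≫ (b ⁻¹ᵁ V).ι)) (hA a ≫ bV) ((hA a ≫ bV) ⁻¹ᵁ O) := fun a => by
    haveI : LocallyOfFiniteType (pullback.snd f (hA a ≫ (b ⁻¹ᵁ V).ι)) :=
      MorphismProperty.pullback_snd (P := @LocallyOfFiniteType) _ _ ‹_›
    haveI : QuasiCompact (pullback.snd f (hA a ≫ (b ⁻¹ᵁ V).ι)) :=
      MorphismProperty.pullback_snd (P := @QuasiCompact) _ _ ‹_›
    exact exists_bijOn_affine (hA a ≫ bV) (pullback.snd f (hA a ≫ (b ⁻¹ᵁ V).ι))
  choose O₁ hO₁ hb using h1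
  obtain ⟨O, hO, hle⟩ := Groth.GenGeomRed.exists_nonempty_open_le
    (Option.elim' (⊤ : (V : Scheme.{u}).Opens) O₁) (by
      rintro (_ | a)
      exacts [⟨⟨γ, hγV⟩, trivial⟩, hO₁ a])
  refine ⟨V.ι ''ᵁ O, ?_, ?_⟩
  · obtain ⟨o, ho⟩ := hO
    exact ⟨V.ι o, (hVG o.2).1, o, ho, rfl⟩
  intro D hD
  obtain ⟨o, ho, hoy⟩ := hD ⟨IsLocalRing.closedPoint D.R, rfl⟩
  have hy₀ : D.σ (IsLocalRing.closedPoint D.R) ∈ b ⁻¹ᵁ V := by
    show b _ ∈ V
    exact Set.mem_of_eq_of_mem hoy.symm o.2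
  obtain ⟨a, w, hw⟩ := 𝒰.exists_eq ⟨_, hy₀⟩
  let jA : A a ⟶ Y := hA a ≫ (b ⁻¹ᵁ V).ι
  have hjA : jA ≫ b = (hA a ≫ bV) ≫ V.ι := by
    show (hA a ≫ (b ⁻¹ᵁ V).ι) ≫ b = _
    rw [Category.assoc, Category.assoc, morphismRestrict_ι]
  have hw' : jA w = D.σ (IsLocalRing.closedPoint D.R) := by
    show (hA a ≫ (b ⁻¹ᵁ V).ι) w = _
    rw [Scheme.Hom.comp_apply]
    exact congrArg Subtype.val hw
  have hmem : (hA a ≫ bV) w ∈ O := by
    have : (hA a ≫ bV) w = o := V.ι.isOpenEmbedding.injective (by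
      rw [← Scheme.Hom.comp_apply, ← hjA, Scheme.Hom.comp_apply, hw']
      exact hoy.symm)
    exact this.symm ▸ ho
  let B : (A a).Opens := (hA a ≫ bV) ⁻¹ᵁ O
  have hbB : BijOn (pullback.snd f jA) (hA a ≫ bV) (B : Set (A a)) :=
    (hb a).mono fun y hy => hle (some a) hy
  haveI : IsOpenImmersion jA := inferInstanceAs (IsOpenImmersion (hA a ≫ (b ⁻¹ᵁ V).ι))
  refine hbB.image jA V.ι (hA a ≫ bV) hjA (IsPullback.of_hasPullback f jA) D ?_
  exact range_subset_of_closedPoint_mem D.σ (jA ''ᵁ B) ⟨w, hmem, hw'⟩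

/-- **Bijectivity over a dense open of a Noetherian base.** -/
theorem exists_dense_bijOn {S : Scheme.{u}} [IsNoetherian S] (f : X ⟶ Y) (b : Y ⟶ S)
    [LocallyOfFiniteType f] [QuasiCompact f] [LocallyOfFiniteType b] [QuasiCompact b] :
    ∃ U : S.Opens, Dense (U : Set S) ∧ BijOn f b (b ⁻¹ᵁ U) := by
  let κ := {O : S.Opens // BijOn f b (b ⁻¹ᵁ O)}
  refine ⟨⨆ O : κ, O.1, ?_, ?_⟩
  · rw [dense_iff_inter_open]
    intro G hG hne
    obtain ⟨O, ⟨x, hxG, hxO⟩, hO⟩ := exists_bijOn_open f b ⟨G, hG⟩ hne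
    exact ⟨x, hxG, Opens.mem_iSup.2 ⟨⟨O, hO⟩, hxO⟩⟩
  · refine BijOn.of_cover (A := fun O : κ => b ⁻¹ᵁ O.1) (fun y hy => ?_) fun O => O.2
    obtain ⟨O, hO⟩ := Opens.mem_iSup.1 hy
    exact Set.mem_iUnion.2 ⟨O, hO⟩

section criterion

open Groth.EtaleShriek.FlatConnBC
open Groth.EtaleBase.EtLimit
open Groth.DescentBase (shStalk isIso_of_acPoints acPoint)
open Groth.EtaleBase.EtLocalRing Groth.AlgSpEt.StrictLocal

variable {S : Scheme.{u}} {f : X ⟶ Y} {b : Y ⟶ S} [QuasiCompact f] [QuasiSeparated f] (U : S.Opens)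

set_option maxHeartbeats 2000000 in
/-- Bijectivity on clopen subsets gives cohomological propriety of sheaves with finite constant stalks. -/
theorem isCohPropSet_of_bijOn (hU : BijOn f b (b ⁻¹ᵁ U)) (F : EtDesc.Sh (f ⁻¹ᵁ b ⁻¹ᵁ U : Scheme.{u}))
    {ι : Type u} [Finite ι] {cb : ι → F.obj.obj (op (EtCoh.top _))} (hc : ConstBasis F cb) :
    CohProp.IsCohPropSet (b ∣_ U) (f ∣_ b ⁻¹ᵁ U) F := by
  intro S' Y' X' p g q' h f' hgp sq
  haveI : QuasiCompact (f ∣_ b ⁻¹ᵁ U) :=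
    MorphismProperty.of_isPullback (isPullback_morphismRestrict f _).flip ‹QuasiCompact f›
  haveI : QuasiSeparated (f ∣_ b ⁻¹ᵁ U) :=
    MorphismProperty.of_isPullback (isPullback_morphismRestrict f _).flip ‹QuasiSeparated f›
  refine isIso_of_acPoints _ fun y => ?_
  let η := acPoint y
  let x : Y' := η default
  let RX : Type u := EtBase.etaleLocalRing η
  letI : Algebra (Y'.presheaf.stalk x) RX := (toEtale η).hom.toAlgebra
  obtain ⟨hlocX, hX⟩ := Groth.AlgSpEt.StrictHens.isStrictHenselization η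
  haveI : IsLocalHom (algebraMap (Y'.presheaf.stalk x) RX) := hlocX
  haveI : Hensel.IsStrictHenselization (Y'.presheaf.stalk x) RX := hX
  let RS : Type u := EtBase.etaleLocalRing (η ≫ g)
  letI : Algebra ((b ⁻¹ᵁ U : Scheme.{u}).presheaf.stalk (g.base x)) RS := (toEtale (η ≫ g)).hom.toAlgebra
  obtain ⟨hlocS, hS⟩ := Groth.AlgSpEt.StrictHens.isStrictHenselization (η ≫ g)
  haveI : IsLocalHom (algebraMap ((b ⁻¹ᵁ U : Scheme.{u}).presheaf.stalk (g.base x)) RS) := hlocS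
  haveI : Hensel.IsStrictHenselization ((b ⁻¹ᵁ U : Scheme.{u}).presheaf.stalk (g.base x)) RS := hS
  haveI := hX.henselian
  haveI := hS.henselian
  haveI : IsSepClosed (IsLocalRing.ResidueField RS) := hS.isSepClosure.sep_closed
  haveI : IsSepClosed (IsLocalRing.ResidueField RX) :=
    haveI := hX.isSepClosure
    IsSepClosure.sep_closed (IsLocalRing.ResidueField (Y'.presheaf.stalk x))
  obtain ⟨ψ, hψloc, hψ⟩ := exists_strictHenselization_map ((b ⁻¹ᵁ U : Scheme.{u}).presheaf.stalk (g.base x))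
    (Y'.presheaf.stalk x) (g.stalkMap x).hom RS RX
  haveI := hψloc
  haveI : IsLocalHom (ev η).hom := isLocalHom_ev η
  let σS := Hens2.specOf (b ⁻¹ᵁ U : Scheme.{u}) (g.base x) RS
  let σX := Hens2.specOf Y' x RX
  haveI : WeaklyEtale σS := Groth.Agent.S0754.result _ (g.base x) RS
  haveI : WeaklyEtale σX := Groth.Agent.S0754.result Y' x RX
  have hν := specOf_compat g x RS RX ψ hψ
  have hξ : locPt RX (ev η).hom ≫ σX = η := specMap_ev_toEtale η
  have hη : locPt RS ((ev η).hom.comp ψ) ≫ σS = η ≫ g :=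
    (congrArg (· ≫ σS) (Spec.map_comp (CommRingCat.ofHom ψ) (ev η))).trans ((Category.assoc _ _ _).trans
      ((congrArg (locPt RX (ev η).hom ≫ ·) hν).trans
        ((Category.assoc _ _ _).symm.trans (congrArg (· ≫ g) hξ))))
  -- the test
  have hsq : IsPullback (g ≫ (b ⁻¹ᵁ U).ι) q' b (p ≫ U.ι) :=
    hgp.paste_horiz (isPullback_morphismRestrict b U).flip
  let D : Test b :=
    { R := RS, R' := RX, σ := σS ≫ (b ⁻¹ᵁ U).ι, S' := S', p := p ≫ U.ι, k := σX ≫ hsq.isoPullback.hom, ψ := ψ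
      comm := (Category.assoc _ _ _).symm.trans ((congrArg (· ≫ (b ⁻¹ᵁ U).ι) hν).trans ((Category.assoc _ _ _).trans
        ((congrArg (σX ≫ ·) hsq.isoPullback_hom_fst.symm).trans (Category.assoc _ _ _).symm))) }
  have hD : Set.range D.σ ⊆ ((b ⁻¹ᵁ U : Y.Opens) : Set Y) := by
    rintro _ ⟨z, rfl⟩
    exact (Scheme.Opens.range_ι (b ⁻¹ᵁ U)).le ⟨σS z, (Scheme.Hom.comp_apply σS (b ⁻¹ᵁ U).ι z).symm⟩
  have hb := hU D hD
  have sqf := (isPullback_morphismRestrict f (b ⁻¹ᵁ U)).flip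
  have s₁ : IsPullback (pullback.fst (f ∣_ b ⁻¹ᵁ U) σS ≫ (f ⁻¹ᵁ b ⁻¹ᵁ U).ι)
      (pullback.snd (f ∣_ b ⁻¹ᵁ U) σS) f D.σ :=
    (IsPullback.of_hasPullback _ σS).paste_horiz sqf
  have hτ : σX ≫ g ≫ (b ⁻¹ᵁ U).ι = D.k ≫ pullback.fst b D.p := by
    exact (congrArg (σX ≫ ·) hsq.isoPullback_hom_fst.symm).trans (Category.assoc _ _ _).symm
  have s₂ : IsPullback (pullback.fst f' σX ≫ h ≫ (f ⁻¹ᵁ b ⁻¹ᵁ U).ι) (pullback.snd f' σX) f
      (D.k ≫ pullback.fst b D.p) := by
    rw [← hτ]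
    exact (IsPullback.of_hasPullback f' σX).paste_horiz (sq.paste_horiz sqf)
  let m := mLoc sq σS σX ψ hν
  have hm : Groth.HensPair.ClopenBij m.base := by
    refine (Groth.HensPair.ClopenBij.of_square (D.map f).continuous s₂.isoPullback.hom.continuous
      s₁.isoPullback.hom.continuous m.continuous
      (Groth.HensPair.ClopenBij.homeomorph s₂.isoPullback.hom.homeomorph)
      (Groth.HensPair.ClopenBij.homeomorph s₁.isoPullback.hom.homeomorph) fun z => ?_).1 hb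
    refine (Scheme.Hom.comp_apply _ _ _).symm.trans (Eq.trans ?_ (Scheme.Hom.comp_apply _ _ _))
    refine congrArg (fun k : pullback f' σX ⟶ pullback f D.σ => k z) ?_
    apply pullback.hom_ext
    · rw [Category.assoc, bcMap_fst, s₂.isoPullback_hom_fst, Category.assoc, s₁.isoPullback_hom_fst,
        ← Category.assoc m, mLoc_fst, Category.assoc]
    · rw [Category.assoc, bcMap_snd, ← Category.assoc, s₂.isoPullback_hom_snd, Category.assoc,
        s₁.isoPullback_hom_snd, mLoc_snd]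
  exact ⟨(injective_iff_inj sq F η).2
      (inj_of_clopen sq F σS σX ψ (ev η).hom hν hξ hη hc (hm.inj m.continuous)),
    (surjective_iff_surj sq F η).2 (surj_of_clopen sq F σS σX ψ (ev η).hom hν hξ hη hc hm)⟩

end criterion

end Groth.ZeroAcyclic.Proper
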