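import Mathlib.RingTheory.Adjoin.FG
import Mathlib.AlgebraicGeometry.Noetherian
import Mathlib.Algebra.Category.Ring.FilteredColimits
import Mathlib.CategoryTheory.Filtered.Small
import Groth.Agent.SpectralTopology.NoethSystem

/-!
The system of finitely generated subalgebras of an algebra.
-/

set_option autoImplicit false

universe u

open AlgebraicGeometry CategoryTheory CategoryTheory.Limits

namespace Groth.ZeroAcyclic.Proper

variable (R K : Type u) [CommRing R] [CommRing K] [Algebra R K]

/-- Finitely generated subalgebras. -/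
abbrev FG : Type u := {s : Subalgebra R K // s.FG}

instance : Nonempty (FG R K) := ⟨⟨⊥, Subalgebra.fg_bot⟩⟩

instance : IsDirected (FG R K) (· ≤ ·) :=
  ⟨fun s t ↦ ⟨⟨s.1 ⊔ t.1, s.2.sup t.2⟩, le_sup_left (a := s.1), le_sup_right (a := s.1)⟩⟩

instance : IsDirectedOrder (FG R K) := ⟨fun s t ↦ exists_ge_ge s t⟩

instance : IsFiltered (FG R K) := isFiltered_of_directed_le_nonempty _

instance : IsCofiltered (FG R K)ᵒᵖ := isCofiltered_op_of_isFiltered _

/-- The diagram of finitely generated subalgebras. -/
def diagram : FG R K ⥤ CommRingCat.{u} where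
  obj s := CommRingCat.of s.1
  map {_ _} f := CommRingCat.ofHom (Subalgebra.inclusion (leOfHom f)).toRingHom
  map_id _ := rfl
  map_comp _ _ := rfl

/-- The cocone with point the algebra. -/
def cocone : Cocone (diagram R K) where
  pt := CommRingCat.of K
  ι :=
    { app := fun s ↦ CommRingCat.ofHom (S := K) s.1.val.toRingHom
      naturality := fun _ _ _ ↦ rfl }

/-- The algebra is the colimit of its finitely generated subalgebras. -/
noncomputable def isColimitCocone : IsColimit (cocone R K) := by
  have : ReflectsColimit (diagram R K) (forget CommRingCat.{u}) :=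
    reflectsColimit_of_reflectsIsomorphisms _ _
  refine isColimitOfReflects (forget CommRingCat.{u}) ?_
  refine Types.FilteredColimit.isColimitOf _ _ (fun (a : K) ↦ ?_) (fun s t x y h ↦ ?_)
  · exact ⟨⟨Algebra.adjoin R {a}, Subalgebra.fg_def.2 ⟨_, Set.finite_singleton _, rfl⟩⟩,
      ⟨a, Algebra.self_mem_adjoin_singleton R a⟩, rfl⟩
  · obtain ⟨r, hsr, htr⟩ := exists_ge_ge s t
    exact ⟨r, homOfLE hsr, homOfLE htr, Subtype.ext h⟩

/-- The system of spectra. -/
noncomputable abbrev schemes : (FG R K)ᵒᵖ ⥤ Scheme.{u} := (diagram R K).op ⋙ Scheme.Spec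

/-- The limit cone. -/
noncomputable abbrev cone : Cone (schemes R K) := Scheme.Spec.mapCone (cocone R K).op

/-- The spectrum of the algebra is the limit. -/
noncomputable def isLimitCone : IsLimit (cone R K) :=
  isLimitOfPreserves Scheme.Spec (isColimitCocone R K).op

instance isAffine_schemes (s : (FG R K)ᵒᵖ) : IsAffine ((schemes R K).obj s) :=
  inferInstanceAs (IsAffine (Spec _))

instance isAffineHom_schemes (s t : (FG R K)ᵒᵖ) (f : s ⟶ t) : IsAffineHom ((schemes R K).map f) :=
  inferInstanceAs (IsAffineHom (Spec.map ((diagram R K).map f.unop)))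

/-- The structure maps. -/
noncomputable def structTrans : schemes R K ⟶ (Functor.const _).obj (Spec (CommRingCat.of R)) where
  app s := Spec.map (CommRingCat.ofHom (algebraMap R s.unop.1))
  naturality s t f := by
    simp only [Functor.const_obj_obj, Functor.const_obj_map, Category.comp_id]
    exact (Spec.map_comp _ _).symm.trans (congrArg Spec.map rfl)

theorem structTrans_w (s : (FG R K)ᵒᵖ) :
    (cone R K).π.app s ≫ (structTrans R K).app s = Spec.map (CommRingCat.ofHom (algebraMap R K)) :=
  (Spec.map_comp _ _).symm.trans (congrArg Spec.map rfl)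

end Groth.ZeroAcyclic.Proper
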