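import Groth.Agent.ZeroAcyclic.BaseChange
import Groth.Agent.ZeroAcyclic.GenericBC
import Groth.Agent.ZeroAcyclic.Proper.Clopen
import Groth.Agent.SpectralTopology.FibreClosure
import Groth.Agent.S7180

/-!
Fibrewise dense open subschemes of universally locally zero acyclic morphisms with normal fibres keep
their clopen subsets after weakly étale base change.
-/

set_option autoImplicit false
set_option backward.isDefEq.respectTransparency.types false
set_option linter.style.haveILetI false

universe u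

open CategoryTheory CategoryTheory.Limits AlgebraicGeometry Opposite IsLocalRing Topology

namespace Groth.ZeroAcyclic.Proper

open Groth.HensPair (ClopenBij clopenBij_of_generalizations preconnectedSpace_of_generalizing)

/-- A morphism whose fibres over all field valued points are normal, with an open subscheme containing
all maximal points of the fibres. -/
structure NormalDense {Q T W : Scheme.{u}} (q : Q ⟶ T) (i : W ⟶ Q) : Prop where
  acyclic : EtAcyc.IsULocZeroAcyclic q
  normal : ∀ (K : Type u) [Field K] (y : Spec (CommRingCat.of K) ⟶ T), Pi1.IsNormalScheme (pullback q y)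
  dense : ∀ x : Q, (∀ x', x' ⤳ x → q x' = q x → x' = x) → x ∈ Set.range i

/-- The generalizations of a point with integral local ring have a common generic point. -/
theorem exists_top_generalization {M : Scheme.{u}} (z : M) [IsDomain (M.presheaf.stalk z)] :
    ∃ γ : M, γ ⤳ z ∧ ∀ w, w ⤳ z → γ ⤳ w := by
  let b : Spec (M.presheaf.stalk z) := (⟨⊥, Ideal.isPrime_bot⟩ : PrimeSpectrum (M.presheaf.stalk z))
  refine ⟨M.fromSpecStalk z b, Scheme.range_fromSpecStalk.le ⟨_, rfl⟩, fun w hw => ?_⟩
  obtain ⟨P, rfl⟩ := Scheme.range_fromSpecStalk.ge hw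
  have hb : b ⤳ P := (PrimeSpectrum.le_iff_specializes b P).1 bot_le
  exact hb.map (M.fromSpecStalk z).continuous

variable {Q T W : Scheme.{u}} {q : Q ⟶ T} {i : W ⟶ Q} [IsOpenImmersion i] [QuasiCompact i]

set_option maxHeartbeats 1000000 in
/-- Over a strictly henselian scheme weakly étale over a base change, the dense open part is connected. -/
theorem connected_open (H : NormalDense q i) {S' : Scheme.{u}} (c : S' ⟶ T)
    (R : Type u) [CommRing R] [HenselianLocalRing R] [IsSepClosed (ResidueField R)]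
    (m : Spec (CommRingCat.of R) ⟶ pullback q c) [WeaklyEtale m] :
    PreconnectedSpace ↥(pullback (m ≫ pullback.fst q c) i) ∧
      Nonempty ↥(pullback (m ≫ pullback.fst q c) i) := by
  let p'' := pullback.snd q c
  have hp'' : EtAcyc.IsULocZeroAcyclic p'' :=
    isULocZeroAcyclic_of_isPullback (IsPullback.of_hasPullback q c) H.acyclic
  let g := m ≫ p''
  let s : S' := g (closedPoint R)
  let α : S'.presheaf.stalk s ⟶ CommRingCat.of R := Scheme.stalkClosedPointTo g
  obtain ⟨RS, _, _, _, _, hRS⟩ := Groth.Agent.S0537.result (S'.presheaf.stalk s)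
  haveI := hRS.henselian
  haveI : IsSepClosed (ResidueField RS) :=
    haveI := hRS.isSepClosure
    IsSepClosure.sep_closed (ResidueField (S'.presheaf.stalk s))
  letI : Algebra R R := Algebra.id R
  haveI : IsLocalHom (algebraMap R R) := ⟨fun _ h => h⟩
  haveI : Algebra.WeaklyEtale R R := Groth.FlatMor2.isWeaklyEtaleHom_iff.1
    (Groth.FlatMor2.IsWeaklyEtaleHom.of_bijective Function.bijective_id)
  haveI := isStrictHenselization_of_self (R := R) R
  haveI : IsLocalHom α.hom := inferInstanceAs (IsLocalHom (Scheme.stalkClosedPointTo g).hom)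
  obtain ⟨ψ, hψloc, hψ⟩ := Groth.EtaleBase.EtLimit.exists_strictHenselization_map
    (S'.presheaf.stalk s) R α.hom RS R
  haveI := hψloc
  let σ := Hens2.specOf S' s RS
  let p := Spec.map (CommRingCat.ofHom ψ)
  have hcomm : p ≫ σ = g := by
    have e : CommRingCat.ofHom (algebraMap (S'.presheaf.stalk s) RS) ≫ CommRingCat.ofHom ψ = α := by
      ext1
      exact hψ
    refine Eq.trans ?_ (Scheme.Spec_stalkClosedPointTo_fromSpecStalk g)
    show p ≫ Spec.map (CommRingCat.ofHom (algebraMap (S'.presheaf.stalk s) RS)) ≫ S'.fromSpecStalk s = _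
    rw [← Category.assoc, ← Spec.map_comp, e]
  haveI : WeaklyEtale σ := Groth.Agent.S0754.result S' s RS
  let Q₃ := pullback p'' σ
  let π : Q₃ ⟶ pullback q c := pullback.fst p'' σ
  let g₃ : Q₃ ⟶ Spec (CommRingCat.of RS) := pullback.snd p'' σ
  let k : Spec (CommRingCat.of R) ⟶ Q₃ := pullback.lift m p hcomm.symm
  haveI : WeaklyEtale π := MorphismProperty.pullback_fst (P := @WeaklyEtale) _ _ ‹_›
  haveI : WeaklyEtale (k ≫ π) := by rw [pullback.lift_fst]; infer_instance
  haveI : WeaklyEtale k := WeaklyEtale.of_comp k π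
  have hk : k ≫ g₃ = p := pullback.lift_snd _ _ _
  have hgen : UGen p := ugen_of_weaklyEtale p'' hp'' σ k p hk
  haveI : Surjective p :=
    ⟨surjective_of_isZeroAcyclic p (isZeroAcyclic_of_weaklyEtale p'' hp'' RS R σ ψ k hk)⟩
  haveI hgc : GeometricallyConnected p := by
    letI : Algebra RS R := ψ.toAlgebra
    haveI : IsLocalHom (algebraMap RS R) := hψloc
    exact geometricallyConnected_spec p'' hp'' RS R σ k hk
  let hR := m ≫ pullback.fst q c
  have hsq : IsPullback (π ≫ pullback.fst q c) g₃ q (σ ≫ c) :=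
    (IsPullback.of_hasPullback p'' σ).paste_horiz (IsPullback.of_hasPullback q c)
  have hkQ : k ≫ π ≫ pullback.fst q c = hR := pullback.lift_fst_assoc _ _ _ _
  -- the fibres
  have hfib : ∀ y : Spec (CommRingCat.of RS),
      _root_.IsPreconnected (hR ⁻¹' Set.range i ∩ p ⁻¹' {y}) ∧ (hR ⁻¹' Set.range i ∩ p ⁻¹' {y}).Nonempty := by
    intro y
    let ι₃ := g₃.fiberι y
    have hN : Pi1.IsNormalScheme (g₃.fiber y) := by
      have s := (IsPullback.of_hasPullback g₃ ((Spec (CommRingCat.of RS)).fromSpecResidueField y)).paste_horiz hsq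
      haveI : IsIso s.isoPullback.hom := inferInstance
      exact Groth.Agent.S7180.result s.isoPullback.hom (H.normal _ _)
    let M := pullback k ι₃
    let jM : M ⟶ Spec (CommRingCat.of R) := pullback.fst k ι₃
    let nM : M ⟶ g₃.fiber y := pullback.snd k ι₃
    haveI : WeaklyEtale nM := MorphismProperty.pullback_snd (P := @WeaklyEtale) _ _ ‹_›
    have hM : Pi1.IsNormalScheme M := Groth.Agent.S7180.result nM hN
    have hrange : Set.range jM = p ⁻¹' {y} := by
      refine (Scheme.Pullback.range_fst k ι₃).trans ?_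
      refine (congrArg (k ⁻¹' ·) (g₃.range_fiberι y)).trans ?_
      ext x
      show g₃ (k x) = y ↔ p x = y
      rw [← hk, Scheme.Hom.comp_apply]
    haveI : IsPreimmersion jM := MorphismProperty.pullback_fst (P := @IsPreimmersion) _ _ inferInstance
    have hconn : PreconnectedSpace M := by
      have h1 : ConnectedSpace ↥(p.fiber y) :=
        GeometricallyConnected.geometrically_connectedSpace (f := p)
          ((Spec (CommRingCat.of RS)).fromSpecResidueField y) _ _ (IsPullback.of_hasPullback _ _)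
      have h2 : _root_.IsPreconnected (p ⁻¹' {y}) := by
        rw [← p.range_fiberι y]
        exact isPreconnected_range (p.fiberι y).continuous
      rw [← hrange, ← Set.image_univ] at h2
      exact ⟨(jM.isEmbedding.isInducing.isPreconnected_image).1 h2⟩
    -- maximal points of the fibre lie in the open
    have hmax : ∀ γ : M, (∀ w, w ⤳ γ → γ ⤳ w) → hR (jM γ) ∈ Set.range i := by
      intro γ hγ
      refine H.dense _ fun x' hx' hqx => ?_
      have hpy : p (jM γ) = y := hrange.le ⟨γ, rfl⟩
      have hgk : g₃ (k (jM γ)) = y := by rw [← Scheme.Hom.comp_apply, hk]; exact hpy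
      let φ := π ≫ pullback.fst q c
      have hφk : φ (k (jM γ)) = hR (jM γ) := by rw [← Scheme.Hom.comp_apply, hkQ]
      have hqφ : ∀ a, q (φ a) = (σ ≫ c) (g₃ a) := fun a => by
        rw [← Scheme.Hom.comp_apply, ← Scheme.Hom.comp_apply, hsq.w]
      rw [← hφk] at hx' hqx ⊢
      rw [hqφ, hgk] at hqx
      obtain ⟨w₀, hw₀⟩ := (q.range_fiberι ((σ ≫ c) y)).ge (show x' ∈ q ⁻¹' {(σ ≫ c) y} from hqx)
      obtain ⟨a₀, ha₀⟩ := (g₃.range_fiberι y).ge (show k (jM γ) ∈ g₃ ⁻¹' {y} from hgk)
      have hfac := Groth.SpectralTopology.fiberBC_ι hsq y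
      have hy₂ : q.fiberι _ (Groth.SpectralTopology.fiberBC hsq y a₀) = φ (k (jM γ)) := by
        rw [← Scheme.Hom.comp_apply, hfac, Scheme.Hom.comp_apply, ha₀]
      obtain ⟨a₁, ha₁, ha₁e⟩ := Groth.SpectralTopology.generalizingMap_fiberBC hsq y
        ((q.fiberι _).isEmbedding.isInducing.specializes_iff.1 (show q.fiberι _ w₀ ⤳
          q.fiberι _ (Groth.SpectralTopology.fiberBC hsq y a₀) by rw [hw₀, hy₂]; exact hx'))
      have hx'' : φ (g₃.fiberι y a₁) = x' := by
        rw [← Scheme.Hom.comp_apply, ← hfac, Scheme.Hom.comp_apply, ha₁e, hw₀]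
      obtain ⟨r, hr, hre⟩ := Flat.generalizingMap k (show g₃.fiberι y a₁ ⤳ k (jM γ) from
        ha₀ ▸ ha₁.map (g₃.fiberι y).continuous)
      have hpr : p r = y := by
        rw [← hk, Scheme.Hom.comp_apply, hre]
        exact (g₃.range_fiberι y).le ⟨a₁, rfl⟩
      obtain ⟨γ', rfl⟩ := hrange.ge hpr
      have hle : γ' ⤳ γ := jM.isEmbedding.isInducing.specializes_iff.1 hr
      obtain rfl : γ' = γ := (hle.antisymm (hγ γ' hle)).eq
      rw [← hx'', ← hre]
    -- the open part of the fibre
    let iM := pullback.fst (jM ≫ hR) i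
    have hiM : Set.range iM = (fun a => hR (jM a)) ⁻¹' Set.range i := by
      refine (Scheme.Pullback.range_fst (jM ≫ hR) i).trans ?_
      ext a
      exact Iff.rfl
    have hgen' : ∀ z : M, ∃ w, iM w ⤳ z ∧ ∀ w', iM w' ⤳ z → iM w ⤳ iM w' := fun z => by
      haveI := (hM z).1
      obtain ⟨γ, hγz, hγ⟩ := exists_top_generalization z
      obtain ⟨w, hw⟩ := hiM.ge (hmax γ fun v hv => hγ v (hv.trans hγz))
      exact ⟨w, hw ▸ hγz, fun w' hw' => hw ▸ hγ _ hw'⟩
    have hbij : ClopenBij iM.base := by
      refine clopenBij_of_generalizations iM (fun z => ⟨(hgen' z).choose, (hgen' z).choose_spec.1⟩) fun z => ?_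
      obtain ⟨w, hw, hwall⟩ := hgen' z
      refine isPreconnected_singleton.subset_closure (s := {w}) (fun a ha => ha ▸ hw) fun a ha => ?_
      exact specializes_iff_mem_closure.1 (iM.isEmbedding.isInducing.specializes_iff.1 (hwall a ha))
    have hWM : PreconnectedSpace ↥(pullback (jM ≫ hR) i) := by
      rw [preconnectedSpace_iff_clopen]
      intro A hA
      obtain ⟨U, ⟨hU, rfl⟩, -⟩ := hbij A hA
      rcases isClopen_iff.1 hU with rfl | rfl
      · exact Or.inl rfl
      · exact Or.inr rfl
    have hset : hR ⁻¹' Set.range i ∩ p ⁻¹' {y} = Set.range (iM ≫ jM) := by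
      rw [← hrange]
      ext x
      constructor
      · rintro ⟨h1, a, rfl⟩
        obtain ⟨w, hw⟩ := hiM.ge (show a ∈ (fun a => hR (jM a)) ⁻¹' Set.range i from h1)
        exact ⟨w, by rw [Scheme.Hom.comp_apply, hw]⟩
      · rintro ⟨w, rfl⟩
        rw [Scheme.Hom.comp_apply]
        exact ⟨hiM.le ⟨w, rfl⟩, _, rfl⟩
    rw [hset]
    refine ⟨isPreconnected_range (iM ≫ jM).continuous, ?_⟩
    obtain ⟨x, hx⟩ := p.surjective y
    obtain ⟨z, -⟩ := hrange.ge hx
    exact ⟨_, (hgen' z).choose, rfl⟩
  -- the open part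
  let iR := pullback.fst hR i
  have hiR : Set.range iR = hR ⁻¹' Set.range i := Scheme.Pullback.range_fst hR i
  have hclosed : ∀ t : Spec (CommRingCat.of RS), t ⤳ closedPoint RS := fun t =>
    (PrimeSpectrum.le_iff_specializes t (closedPoint RS)).1
      (IsLocalRing.le_maximalIdeal t.isPrime.ne_top)
  have hne : ∃ w, (iR ≫ p) w = closedPoint RS := by
    obtain ⟨x, hx₁, hx₂⟩ := (hfib (closedPoint RS)).2
    obtain ⟨w, rfl⟩ := hiR.ge hx₁
    exact ⟨w, by rw [Scheme.Hom.comp_apply]; exact hx₂⟩
  refine ⟨?_, ⟨hne.choose⟩⟩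
  refine preconnectedSpace_of_generalizing (q := (iR ≫ p).base) ?_ (iR ≫ p).continuous (closedPoint RS) hclosed
    hne fun y => ?_
  · intro w t ht
    have ht' : t ⤳ p (iR w) := by rwa [← Scheme.Hom.comp_apply]
    obtain ⟨x, hx, hxt⟩ := (hgen _ _ _ (IsPullback.of_id_fst (f := p)).flip : GeneralizingMap p.base) ht'
    obtain ⟨w', hw'⟩ : x ∈ Set.range iR := hx.mem_open iR.isOpenEmbedding.isOpen_range ⟨w, rfl⟩
    refine ⟨w', iR.isEmbedding.isInducing.specializes_iff.1 (hw' ▸ hx), ?_⟩
    rw [← hxt, ← hw', ← Scheme.Hom.comp_apply]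
  · refine iR.isEmbedding.isInducing.isPreconnected_image.1 ?_
    have : iR '' ((iR ≫ p) ⁻¹' {y}) = hR ⁻¹' Set.range i ∩ p ⁻¹' {y} := by
      rw [← hiR]
      ext x
      constructor
      · rintro ⟨w, hw, rfl⟩
        exact ⟨⟨w, rfl⟩, by simpa [Scheme.Hom.comp_apply] using hw⟩
      · rintro ⟨⟨w, rfl⟩, hw⟩
        exact ⟨w, by simpa [Scheme.Hom.comp_apply] using hw, rfl⟩
    rw [this]
    exact (hfib y).1

set_option maxHeartbeats 1000000 in
/-- **The fibrewise dense open keeps clopen subsets.** -/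
theorem clopenBij_open (H : NormalDense q i) {S' Z : Scheme.{u}} (c : S' ⟶ T) (z : Z ⟶ pullback q c)
    [WeaklyEtale z] (h : Z ⟶ Q) (hh : z ≫ pullback.fst q c = h) :
    ClopenBij (pullback.fst h i).base := by
  let j := pullback.fst h i
  have key : ∀ x : Z, _root_.IsPreconnected {w | j w ⤳ x} ∧ {w | j w ⤳ x}.Nonempty := by
    intro x
    obtain ⟨R, _, _, _, _, hR⟩ := Groth.Agent.S0537.result (Z.presheaf.stalk x)
    haveI := hR.henselian
    haveI : IsSepClosed (ResidueField R) :=
      haveI := hR.isSepClosure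
      IsSepClosure.sep_closed (ResidueField (Z.presheaf.stalk x))
    let σ := Hens2.specOf Z x R
    haveI : WeaklyEtale σ := Groth.Agent.S0754.result Z x R
    haveI := Groth.FlatMor2.WeaklyEtaleHens.weaklyEtale_of_isStrictHenselization (Z.presheaf.stalk x) R
    haveI : Module.Flat (Z.presheaf.stalk x) R := Algebra.WeaklyEtale.flat
    haveI : Module.FaithfullyFlat (Z.presheaf.stalk x) R := Module.FaithfullyFlat.of_flat_of_isLocalHom
    have hσ : Set.range σ = {a | a ⤳ x} := by
      refine Eq.trans ?_ Scheme.range_fromSpecStalk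
      ext a
      constructor
      · rintro ⟨r, rfl⟩
        exact ⟨_, rfl⟩
      · rintro ⟨P, rfl⟩
        obtain ⟨r, rfl⟩ :=
          PrimeSpectrum.comap_surjective_of_faithfullyFlat (A := Z.presheaf.stalk x) (B := R) P
        exact ⟨r, rfl⟩
    obtain ⟨hc, hn⟩ := connected_open H c R (σ ≫ z)
    let e : pullback ((σ ≫ z) ≫ pullback.fst q c) i ⟶ pullback h i :=
      pullback.lift (pullback.fst _ _ ≫ σ) (pullback.snd _ _) (by
        refine Eq.trans ?_ pullback.condition
        subst hh
        simp only [Category.assoc])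
    have he : Set.range e = {w | j w ⤳ x} := by
      ext w
      constructor
      · rintro ⟨v, rfl⟩
        show j (e v) ⤳ x
        rw [← Scheme.Hom.comp_apply, pullback.lift_fst, Scheme.Hom.comp_apply]
        exact hσ.le ⟨_, rfl⟩
      · intro hw
        obtain ⟨r, hr⟩ := hσ.ge hw
        have hri : ((σ ≫ z) ≫ pullback.fst q c) r ∈ Set.range i := by
          rw [Category.assoc, hh, Scheme.Hom.comp_apply, hr, ← Scheme.Hom.comp_apply]
          exact ⟨pullback.snd h i w, by rw [pullback.condition, Scheme.Hom.comp_apply]⟩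
        obtain ⟨v, hv⟩ := (Scheme.Pullback.range_fst ((σ ≫ z) ≫ pullback.fst q c) i).ge hri
        refine ⟨v, j.isEmbedding.injective ?_⟩
        rw [← Scheme.Hom.comp_apply, pullback.lift_fst, Scheme.Hom.comp_apply, hv, hr]
    rw [← he]
    exact ⟨isPreconnected_range e.continuous, Set.range_nonempty _⟩
  exact clopenBij_of_generalizations j (fun x => (key x).2) fun x => (key x).1

end Groth.ZeroAcyclic.Proper
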