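import Groth.Agent.ZeroAcyclic.Proper.Normal
import Groth.Agent.ZeroAcyclic.Proper.Fibre
import Groth.Agent.AlgSp2.GeomConnSp
import Groth.Agent.SpectralTopology.ConsBase
import Groth.Agent.FlatMorOne.GenFlatScheme
import Groth.Agent.GenGeomRed.Shrink
import Groth.Agent.S4827
import Groth.Agent.S3427
import Groth.Agent.S3474

/-!
Generic geometric normality and generic density on the fibres.
-/

set_option autoImplicit false
set_option backward.isDefEq.respectTransparency.types false
set_option linter.style.haveILetI false

universe u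

open CategoryTheory CategoryTheory.Limits AlgebraicGeometry TopologicalSpace Topology

namespace Groth.ZeroAcyclic.Proper

/-- A field valued point of a scheme over the point below it. -/
theorem exists_fac_residueField {S : Scheme.{u}} {L : Type u} [Field L] (y : Spec (CommRingCat.of L) ⟶ S)
    (t : S) (ht : y default = t) :
    ∃ φ : S.residueField t →+* L, Spec.map (CommRingCat.ofHom φ) ≫ S.fromSpecResidueField t = y := by
  subst ht
  let e := Scheme.SpecToEquivOfField L S y
  have h1 : e.1 = y default := by
    show y _ = y default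
    exact congrArg _ (Subsingleton.elim _ _)
  have hy : Spec.map e.2 ≫ S.fromSpecResidueField e.1 = y := (Scheme.SpecToEquivOfField L S).symm_apply_apply y
  have key : ∀ t, e.1 = t → ∃ φ : S.residueField t →+* L,
      Spec.map (CommRingCat.ofHom φ) ≫ S.fromSpecResidueField t = y := by
    rintro _ rfl
    exact ⟨e.2.hom, hy⟩
  exact key _ h1

section

variable {Q T : Scheme.{u}} (q : Q ⟶ T) [IsNoetherian T] [IrreducibleSpace T]
  [LocallyOfFiniteType q] [QuasiCompact q] [QuasiSeparated q] {K : Type u} [Field K] [IsAlgClosed K]
  (e : Spec (CommRingCat.of K) ⟶ T) (he : e default = genericPoint T)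

include he in
/-- Geometric normality of the generic fibre spreads out. -/
theorem exists_open_normal_fibres (hN : Pi1.IsNormalScheme (pullback q e)) :
    ∃ G : T.Opens, genericPoint T ∈ G ∧ ∀ (L : Type u) [Field L] (y : Spec (CommRingCat.of L) ⟶ T),
      y default ∈ G → Pi1.IsNormalScheme (pullback q y) := by
  haveI : LocallyOfFinitePresentation q := LocallyOfFinitePresentation.iff_locallyOfFiniteType.2 inferInstance
  let C : Set T := {s : T |
      ∀ (K : Type u) [Field K] [Algebra (IsLocalRing.ResidueField (T.presheaf.stalk s)) K]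
        (x' : ↥(FBase.bc (q.fiberToSpecResidueField s) K)),
        IsDomain ((FBase.bc (q.fiberToSpecResidueField s) K).presheaf.stalk x') ∧
          IsIntegrallyClosed ((FBase.bc (q.fiberToSpecResidueField s) K).presheaf.stalk x')}
  have hC : IsConstructible C := (Groth.Agent.S4827.result q).isConstructible
  have hlr : ∀ (L : Type u) [Field L] (s : T) (φ : T.residueField s →+* L),
      IsPullback (pullback.fst (q.fiberToSpecResidueField s) (Spec.map (CommRingCat.ofHom φ)) ≫ q.fiberι s)
        (pullback.snd (q.fiberToSpecResidueField s) (Spec.map (CommRingCat.ofHom φ))) q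
        (Spec.map (CommRingCat.ofHom φ) ≫ T.fromSpecResidueField s) := fun L _ s φ =>
    (IsPullback.of_hasPullback _ _).paste_horiz (IsPullback.of_hasPullback q (T.fromSpecResidueField s))
  have hη : genericPoint T ∈ C := by
    intro L _ alg x'
    let φ : T.residueField (genericPoint T) →+* L :=
      algebraMap (IsLocalRing.ResidueField (T.presheaf.stalk (genericPoint T))) L
    obtain ⟨ψ, hψ⟩ := exists_fac_residueField e (genericPoint T) he
    letI : Algebra (T.residueField (genericPoint T)) K := ψ.toAlgebra
    letI : Algebra (T.residueField (genericPoint T)) L := φ.toAlgebra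
    obtain ⟨Ω, _, _, ⟨a⟩, ⟨c⟩⟩ := Groth.AlgSp2.GeomConnSp.exists_common
      (k := T.residueField (genericPoint T)) K L
    let yL := Spec.map (CommRingCat.ofHom φ) ≫ T.fromSpecResidueField (genericPoint T)
    let sa := Spec.map (CommRingCat.ofHom a.toRingHom)
    let sc := Spec.map (CommRingCat.ofHom c.toRingHom)
    have hΩ : sa ≫ e = sc ≫ yL := by
      rw [← hψ]
      simp only [sa, sc, yL, ← Category.assoc, ← Spec.map_comp, ← CommRingCat.ofHom_comp]
      congr 3
      exact a.comp_algebraMap.trans c.comp_algebraMap.symm
    have h1 := isNormalScheme_pullback_of_isAlgClosed (pullback.snd q e) hN a.toRingHom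
    let i1 := pullbackLeftPullbackSndIso q e sa
    let i2 := (pullback.congrHom (rfl : q = q) hΩ) ≪≫ (pullbackLeftPullbackSndIso q yL sc).symm
    have h2 : Pi1.IsNormalScheme (pullback (pullback.snd q yL) sc) :=
      Groth.Agent.S7180.result (i1 ≪≫ i2).inv h1
    haveI : Surjective sc := Groth.AlgSp2.GeomConnSp.surjective_field c.toRingHom
    haveI : Flat sc := by
      rw [Flat.SpecMap_iff]
      letI : Algebra L Ω := c.toRingHom.toAlgebra
      exact RingHom.flat_algebraMap_iff.2 Module.Flat.of_free
    haveI : Flat (pullback.fst (pullback.snd q yL) sc) := MorphismProperty.pullback_fst (P := @Flat) _ _ ‹_›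
    haveI : Surjective (pullback.fst (pullback.snd q yL) sc) :=
      MorphismProperty.pullback_fst (P := @Surjective) _ _ ‹_›
    have h3 : Pi1.IsNormalScheme (pullback q yL) :=
      isNormalScheme_of_flat_surjective (pullback.fst (pullback.snd q yL) sc) h2
    have h4 : Pi1.IsNormalScheme (FBase.bc (q.fiberToSpecResidueField (genericPoint T)) L) :=
      Groth.Agent.S7180.result (hlr L (genericPoint T) φ).isoPullback.hom h3
    exact h4 x'
  refine ⟨⟨interior C, isOpen_interior⟩, Groth.SpectralTopology.genericPoint_mem_interior hC hη,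
    fun L _ y hy => ?_⟩
  obtain ⟨φ, hφ⟩ := exists_fac_residueField y (y default) rfl
  letI : Algebra (IsLocalRing.ResidueField (T.presheaf.stalk (y default))) L := φ.toAlgebra
  have h1 : Pi1.IsNormalScheme
      (pullback (q.fiberToSpecResidueField (y default)) (Spec.map (CommRingCat.ofHom φ))) :=
    fun x' => interior_subset (s := C) hy L x'
  have h2 := Groth.Agent.S7180.result (hlr L (y default) φ).isoPullback.inv h1
  exact Groth.Agent.S7180.result (pullback.congrHom (rfl : q = q) hφ).inv h2

include he in
/-- An open containing the maximal points of the generic geometric fibre contains generically those of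
all fibres. -/
theorem exists_open_dense_fibres {W : Scheme.{u}} (i : W ⟶ Q) [IsOpenImmersion i]
    (hW : ∀ γ : ↥(pullback q e), (∀ w, w ⤳ γ → w = γ) → pullback.fst q e γ ∈ Set.range i) :
    ∃ G : T.Opens, genericPoint T ∈ G ∧
      ∀ x : Q, q x ∈ G → (∀ x', x' ⤳ x → q x' = q x → x' = x) → x ∈ Set.range i := by
  haveI : LocallyOfFinitePresentation q := LocallyOfFinitePresentation.iff_locallyOfFiniteType.2 inferInstance
  haveI : IsLocallyNoetherian Q := LocallyOfFiniteType.isLocallyNoetherian q
  haveI : CompactSpace Q := QuasiCompact.compactSpace_of_compactSpace q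
  haveI : IsNoetherian Q := {}
  have hi : IsConstructible (Set.range i) :=
    Groth.SpectralTopology.isConstructible_of_isOpen i.isOpenEmbedding.isOpen_range
  let C : Set T := {s : T | Set.univ ∩ q.base ⁻¹' {s} ⊆ closure (Set.range i ∩ q.base ⁻¹' {s})}
  have hC : IsConstructible C := (Groth.Agent.S3427.result q (Set.range i) Set.univ hi.isLocallyConstructible
    IsConstructible.univ.isLocallyConstructible (Set.subset_univ _)).isConstructible
  have hη : genericPoint T ∈ C := by
    rintro x ⟨-, hx⟩
    obtain ⟨z, hz, -⟩ := Scheme.Pullback.exists_preimage_pullback (f := q) (g := e) x default (hx.trans he.symm)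
    obtain ⟨γ, hγ, hγz⟩ := Groth.Limits.exists_maximal_specializes z
    have h1 : pullback.fst q e γ ⤳ x := hz ▸ hγz.map (pullback.fst q e).continuous
    have h2 : q (pullback.fst q e γ) = genericPoint T := by
      rw [← Scheme.Hom.comp_apply, pullback.condition, Scheme.Hom.comp_apply,
        Subsingleton.elim (pullback.snd q e γ) default, he]
    have h3 : ({pullback.fst q e γ} : Set Q) ⊆ Set.range i ∩ q.base ⁻¹' {genericPoint T} :=
      Set.singleton_subset_iff.2 ⟨hW γ hγ, h2⟩
    exact closure_mono h3 (specializes_iff_mem_closure.1 h1)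
  refine ⟨⟨interior C, isOpen_interior⟩, Groth.SpectralTopology.genericPoint_mem_interior hC hη,
    fun x hx hmax => ?_⟩
  let ι₁ := q.fiberι (q x)
  let i' := pullback.fst ι₁ i
  have hr : Set.range i' = ι₁ ⁻¹' Set.range i := Scheme.Pullback.range_fst ι₁ i
  have hcl : x ∈ closure (ι₁ '' Set.range i') := by
    rw [hr, Set.image_preimage_eq_inter_range, q.range_fiberι]
    exact interior_subset (s := C) hx ⟨trivial, rfl⟩
  obtain ⟨a, ha⟩ : x ∈ Set.range ι₁ := (q.range_fiberι (q x)).ge rfl
  have ha' : a ∈ closure (Set.range i') := by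
    rw [ι₁.isEmbedding.closure_eq_preimage_closure_image, Set.mem_preimage, ha]
    exact hcl
  haveI : QuasiCompact i := by
    haveI : IsLocallyNoetherian W := LocallyOfFiniteType.isLocallyNoetherian i
    infer_instance
  haveI : QuasiCompact i' := MorphismProperty.pullback_fst (P := @QuasiCompact) _ _ ‹_›
  obtain ⟨w, hw⟩ := Groth.DescentBase.exists_specializes_of_mem_closure_range i' ha'
  have hwx : ι₁ (i' w) ⤳ x := (hw.map ι₁.continuous).trans (specializes_of_eq ha)
  have hqw : q (ι₁ (i' w)) = q x := (q.range_fiberι (q x)).le ⟨_, rfl⟩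
  rw [← hmax _ hwx hqw]
  exact hr.le ⟨w, rfl⟩

end

/-- A morphism of finite type hitting every point over the generic point is generically surjective. -/
theorem exists_open_surjective {W X T : Scheme.{u}} [IsNoetherian X] [IsNoetherian T] [IrreducibleSpace T]
    (h : W ⟶ X) [LocallyOfFiniteType h] [QuasiCompact h] (g : X ⟶ T) [LocallyOfFiniteType g] [QuasiCompact g]
    (hη : ∀ x, g x = genericPoint T → x ∈ Set.range h) :
    ∃ G : T.Opens, genericPoint T ∈ G ∧ ∀ x, g x ∈ G → x ∈ Set.range h := by
  haveI : LocallyOfFinitePresentation h := LocallyOfFinitePresentation.iff_locallyOfFiniteType.2 inferInstance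
  haveI : LocallyOfFinitePresentation g := LocallyOfFinitePresentation.iff_locallyOfFiniteType.2 inferInstance
  have h1 : IsConstructible (Set.range h) := by
    rw [← Set.image_univ]
    exact h.isConstructible_image .univ
  have h2 := g.isConstructible_image h1.compl
  refine ⟨⟨interior (g '' (Set.range h)ᶜ)ᶜ, isOpen_interior⟩,
    Groth.SpectralTopology.genericPoint_mem_interior h2.compl ?_, fun x hx => ?_⟩
  · rintro ⟨x, hx, hxg⟩
    exact hx (hη x hxg)
  · by_contra hxh
    exact interior_subset (s := (g '' (Set.range h)ᶜ)ᶜ) hx ⟨x, hxh, rfl⟩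

end Groth.ZeroAcyclic.Proper
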