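import Groth.Agent.ZeroAcyclic.Proper.Fibre
import Groth.Agent.ZeroAcyclic.MilnorFibres
import Groth.Agent.HensPair.ProperClopenCor
import Groth.Agent.CohFin.ProjFinite
import Groth.Agent.AlgSp2.GeomConnSp

/-!
Proper normal models give bijections on clopen subsets of base changes to strictly henselian schemes.
-/

set_option autoImplicit false
set_option backward.isDefEq.respectTransparency.types false
set_option linter.style.haveILetI false

universe u

open CategoryTheory CategoryTheory.Limits AlgebraicGeometry Opposite IsLocalRing Topology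

namespace Groth.ZeroAcyclic.Proper

open Groth.HensPair (ClopenBij ClopenInj)

section maps

variable {A B Y P P' : Scheme.{u}} (fA : A ⟶ Y) (fB : B ⟶ Y) (σ : P ⟶ Y) (τ : P' ⟶ Y)

/-- Change of the base. -/
noncomputable def bcMap (p : P' ⟶ P) (e : p ≫ σ = τ) : pullback fA τ ⟶ pullback fA σ :=
  pullback.lift (pullback.fst _ _) (pullback.snd _ _ ≫ p) (by rw [Category.assoc, e, pullback.condition])

lemma bcMap_fst (p : P' ⟶ P) (e : p ≫ σ = τ) :
    bcMap fA σ τ p e ≫ pullback.fst fA σ = pullback.fst fA τ := pullback.lift_fst _ _ _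

lemma bcMap_snd (p : P' ⟶ P) (e : p ≫ σ = τ) :
    bcMap fA σ τ p e ≫ pullback.snd fA σ = pullback.snd fA τ ≫ p := pullback.lift_snd _ _ _

lemma isPullback_bcMap (p : P' ⟶ P) (e : p ≫ σ = τ) :
    IsPullback (bcMap fA σ τ p e) (pullback.snd fA τ) (pullback.snd fA σ) p := by
  have s := IsPullback.of_hasPullback fA τ
  rw [← bcMap_fst fA σ τ p e] at s
  refine IsPullback.of_right ?_ (bcMap_snd fA σ τ p e) (IsPullback.of_hasPullback fA σ)
  rw [e]
  exact s

/-- Change of the scheme over the base. -/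
noncomputable def ovMap (g : A ⟶ B) (w : g ≫ fB = fA) : pullback fA σ ⟶ pullback fB σ :=
  pullback.lift (pullback.fst _ _ ≫ g) (pullback.snd _ _) (by rw [Category.assoc, w, pullback.condition])

lemma ovMap_fst (g : A ⟶ B) (w : g ≫ fB = fA) :
    ovMap fA fB σ g w ≫ pullback.fst fB σ = pullback.fst fA σ ≫ g := pullback.lift_fst _ _ _

lemma ovMap_snd (g : A ⟶ B) (w : g ≫ fB = fA) :
    ovMap fA fB σ g w ≫ pullback.snd fB σ = pullback.snd fA σ := pullback.lift_snd _ _ _

lemma isPullback_ovMap (g : A ⟶ B) (w : g ≫ fB = fA) :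
    IsPullback (pullback.fst fA σ) (ovMap fA fB σ g w) g (pullback.fst fB σ) := by
  have s := (IsPullback.of_hasPullback fA σ).flip
  rw [← ovMap_snd fA fB σ g w] at s
  refine (IsPullback.of_right ?_ (ovMap_fst fA fB σ g w) (IsPullback.of_hasPullback fB σ).flip).flip
  rw [w]
  exact s

lemma ovMap_bcMap (g : A ⟶ B) (w : g ≫ fB = fA) (p : P' ⟶ P) (e : p ≫ σ = τ) :
    bcMap fA σ τ p e ≫ ovMap fA fB σ g w = ovMap fA fB τ g w ≫ bcMap fB σ τ p e := by
  apply pullback.hom_ext
  · rw [Category.assoc, Category.assoc, ovMap_fst, bcMap_fst, ovMap_fst, ← Category.assoc, bcMap_fst]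
  · rw [Category.assoc, Category.assoc, ovMap_snd, bcMap_snd, bcMap_snd, ← Category.assoc, ovMap_snd]

lemma ovMap_comp {C : Scheme.{u}} (fC : C ⟶ Y) (g : A ⟶ B) (w : g ≫ fB = fA) (g' : B ⟶ C)
    (w' : g' ≫ fC = fB) (w'' : (g ≫ g') ≫ fC = fA) :
    ovMap fA fB σ g w ≫ ovMap fB fC σ g' w' = ovMap fA fC σ (g ≫ g') w'' := by
  apply pullback.hom_ext
  · rw [Category.assoc, ovMap_fst, ← Category.assoc, ovMap_fst, ovMap_fst, Category.assoc]
  · rw [Category.assoc, ovMap_snd, ovMap_snd, ovMap_snd]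

end maps

/-- Points with the same image come from the overlap. -/
theorem exists_overlap {A B X Y P : Scheme.{u}} (gA : A ⟶ X) (gB : B ⟶ X) (f : X ⟶ Y) (α : P ⟶ Y)
    {fA : A ⟶ Y} {fB : B ⟶ Y} {F : pullback gA gB ⟶ Y} (hA : gA ≫ f = fA) (hB : gB ≫ f = fB)
    (w₁ : pullback.fst gA gB ≫ fA = F) (w₂ : pullback.snd gA gB ≫ fB = F)
    (x : ↥(pullback fA α)) (y : ↥(pullback fB α))
    (hxy : ovMap fA f α gA hA x = ovMap fB f α gB hB y) :
    ∃ z, ovMap F fA α (pullback.fst gA gB) w₁ z = x ∧ ovMap F fB α (pullback.snd gA gB) w₂ z = y := by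
  obtain ⟨z, hz₁, hz₂⟩ := Scheme.Pullback.exists_preimage_pullback (f := ovMap fA f α gA hA)
    (g := ovMap fB f α gB hB) x y hxy
  let v₁ := pullback.fst (ovMap fA f α gA hA) (ovMap fB f α gB hB)
  let v₂ := pullback.snd (ovMap fA f α gA hA) (ovMap fB f α gB hB)
  have hv : v₁ ≫ ovMap fA f α gA hA = v₂ ≫ ovMap fB f α gB hB := pullback.condition
  have hv₁ : (v₁ ≫ pullback.fst _ _) ≫ gA = (v₂ ≫ pullback.fst _ _) ≫ gB := by
    have := congrArg (· ≫ pullback.fst f α) hv
    simpa only [Category.assoc, ovMap_fst] using this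
  have hv₂ : v₁ ≫ pullback.snd _ _ = v₂ ≫ pullback.snd _ _ := by
    have := congrArg (· ≫ pullback.snd f α) hv
    simpa only [Category.assoc, ovMap_snd] using this
  let u := pullback.lift (v₁ ≫ pullback.fst _ _) (v₂ ≫ pullback.fst _ _) hv₁
  let v : _ ⟶ pullback F α := pullback.lift u (v₁ ≫ pullback.snd _ _) (by
    rw [← w₁, ← Category.assoc, pullback.lift_fst, Category.assoc, Category.assoc, pullback.condition])
  have e₁ : v ≫ ovMap F fA α (pullback.fst gA gB) w₁ = v₁ := by
    apply pullback.hom_ext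
    · rw [Category.assoc, ovMap_fst, pullback.lift_fst_assoc, pullback.lift_fst]
    · rw [Category.assoc, ovMap_snd, pullback.lift_snd]
  have e₂ : v ≫ ovMap F fB α (pullback.snd gA gB) w₂ = v₂ := by
    apply pullback.hom_ext
    · rw [Category.assoc, ovMap_fst, pullback.lift_fst_assoc, pullback.lift_snd]
    · rw [Category.assoc, ovMap_snd, pullback.lift_snd, hv₂]
  exact ⟨v z, by rw [← Scheme.Hom.comp_apply, e₁]; exact hz₁, by rw [← Scheme.Hom.comp_apply, e₂]; exact hz₂⟩

/-- A test for cohomological propriety: strictly henselian schemes over `Y` and over a base change. -/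
structure Test {Y T : Scheme.{u}} (b : Y ⟶ T) where
  R : Type u
  R' : Type u
  [instR : CommRing R]
  [instR' : CommRing R']
  [hensR : HenselianLocalRing R]
  [hensR' : HenselianLocalRing R']
  [sepR : IsSepClosed (ResidueField R)]
  [sepR' : IsSepClosed (ResidueField R')]
  σ : Spec (CommRingCat.of R) ⟶ Y
  [wσ : WeaklyEtale σ]
  S' : Scheme.{u}
  p : S' ⟶ T
  k : Spec (CommRingCat.of R') ⟶ pullback b p
  [wk : WeaklyEtale k]
  ψ : R →+* R'
  [locψ : IsLocalHom ψ]
  comm : Spec.map (CommRingCat.ofHom ψ) ≫ σ = k ≫ pullback.fst b p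

attribute [instance] Test.instR Test.instR' Test.hensR Test.hensR' Test.sepR Test.sepR' Test.wσ Test.wk
  Test.locψ

variable {X Y T : Scheme.{u}} {b : Y ⟶ T}

/-- The comparison of base changes of a test. -/
noncomputable abbrev Test.map (D : Test b) (f : X ⟶ Y) :=
  bcMap f D.σ (D.k ≫ pullback.fst b D.p) (Spec.map (CommRingCat.ofHom D.ψ)) D.comm

/-- Clopen subsets of base changes to strictly henselian schemes do not change. -/
def BijOn (f : X ⟶ Y) (b : Y ⟶ T) (A : Set Y) : Prop :=
  ∀ D : Test b, Set.range D.σ ⊆ A → ClopenBij (D.map f).base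

/-- Clopen subsets of base changes to strictly henselian schemes are detected after extension. -/
def InjOn (f : X ⟶ Y) (b : Y ⟶ T) (A : Set Y) : Prop :=
  ∀ D : Test b, Set.range D.σ ⊆ A → ClopenInj (D.map f).base

/-- A proper normal model of `X`. -/
structure Chart (f : X ⟶ Y) (b : Y ⟶ T) where
  W : Scheme.{u}
  Q : Scheme.{u}
  T' : Scheme.{u}
  q : Q ⟶ T'
  r : T' ⟶ T
  i : W ⟶ Q
  [openi : IsOpenImmersion i]
  [qci : QuasiCompact i]
  πQ : Q ⟶ Y
  [properQ : IsProper πQ]
  w₁ : πQ ≫ b = q ≫ r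
  hX : W ⟶ X
  [properh : IsProper hX]
  [surjh : Surjective hX]
  w₂ : i ≫ πQ = hX ≫ f
  good : NormalDense q i

attribute [instance] Chart.openi Chart.qci Chart.properQ Chart.properh Chart.surjh

variable {f : X ⟶ Y}

set_option maxHeartbeats 1000000 in
/-- Proper models have bijective comparison maps, by proper base change of connected components. -/
theorem clopenBij_proper {Q : Scheme.{u}} (πQ : Q ⟶ Y) [IsProper πQ] (D : Test b) :
    ClopenBij (D.map πQ).base := by
  let p := Spec.map (CommRingCat.ofHom D.ψ)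
  let τ := D.k ≫ pullback.fst b D.p
  let f₀ := pullback.snd πQ D.σ
  let f₀' := pullback.snd πQ τ
  let mk := Spec.map (CommRingCat.ofHom (Ideal.Quotient.mk (maximalIdeal D.R)))
  let mk' := Spec.map (CommRingCat.ofHom (Ideal.Quotient.mk (maximalIdeal D.R')))
  letI := Ideal.Quotient.field (maximalIdeal D.R)
  letI := Ideal.Quotient.field (maximalIdeal D.R')
  haveI : IsSepClosed (D.R ⧸ maximalIdeal D.R) := inferInstanceAs (IsSepClosed (ResidueField D.R))
  let φ : D.R ⧸ maximalIdeal D.R →+* D.R' ⧸ maximalIdeal D.R' := ResidueField.map D.ψ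
  let sp := Spec.map (CommRingCat.ofHom φ)
  have hsp : sp ≫ mk = mk' ≫ p := by
    simp only [sp, mk, mk', p, ← Spec.map_comp, ← CommRingCat.ofHom_comp]
    rfl
  let d : pullback f₀' mk' ⟶ pullback f₀ mk :=
    pullback.lift (pullback.fst f₀' mk' ≫ D.map πQ) (pullback.snd f₀' mk' ≫ sp) (by
      rw [Category.assoc, Category.assoc, bcMap_snd, hsp, ← pullback.condition_assoc])
  have hd : IsPullback d (pullback.snd f₀' mk') (pullback.snd f₀ mk) sp := by
    refine IsPullback.of_right ?_ (pullback.lift_snd _ _ _) (IsPullback.of_hasPullback f₀ mk)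
    rw [pullback.lift_fst, hsp]
    exact (IsPullback.of_hasPullback f₀' mk').paste_horiz
      (isPullback_bcMap πQ D.σ τ p D.comm)
  haveI : Surjective sp := Groth.AlgSp2.GeomConnSp.surjective_field φ
  haveI : UniversallyOpen sp := Groth.AlgSp2.GeomConnSp.universallyOpen_field φ
  haveI : GeometricallyConnected sp := Groth.AlgSp2.GeomConnSp.geometricallyConnected_field φ
  haveI : Surjective d := MorphismProperty.of_isPullback (P := @Surjective) hd.flip ‹_›
  haveI : UniversallyOpen d := MorphismProperty.of_isPullback (P := @UniversallyOpen) hd.flip ‹_›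
  haveI : GeometricallyConnected d :=
    MorphismProperty.of_isPullback (P := @GeometricallyConnected) hd.flip ‹_›
  have hdb : ClopenBij d.base := by
    refine ClopenBij.of_isOpenMap d.isOpenMap d.surjective fun y => ?_
    have h1 : ConnectedSpace ↥(d.fiber y) :=
      GeometricallyConnected.geometrically_connectedSpace (f := d) (Scheme.fromSpecResidueField _ y) _ _
        (IsPullback.of_hasPullback _ _)
    rw [← d.range_fiberι y]
    exact isPreconnected_range (d.fiberι y).continuous
  haveI : HenselianRing D.R (maximalIdeal D.R) := inferInstance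
  haveI : HenselianRing D.R' (maximalIdeal D.R') := inferInstance
  haveI : IsProper f₀ := MorphismProperty.pullback_snd (P := @IsProper) _ _ ‹_›
  haveI : IsProper f₀' := MorphismProperty.pullback_snd (P := @IsProper) _ _ ‹_›
  have h₁ := Groth.HensPair.clopenBij_pullback_fst Groth.CohFin.projFinite (maximalIdeal D.R) f₀
  have h₂ := Groth.HensPair.clopenBij_pullback_fst Groth.CohFin.projFinite (maximalIdeal D.R') f₀'
  refine (ClopenBij.of_square (D.map πQ).continuous (pullback.fst f₀' mk').continuous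
    (pullback.fst f₀ mk).continuous d.continuous h₂ h₁ fun x => ?_).2 hdb
  exact congrArg (fun m : pullback f₀' mk' ⟶ pullback πQ D.σ => m x) (pullback.lift_fst _ _ _ :
    d ≫ pullback.fst f₀ mk = pullback.fst f₀' mk' ≫ D.map πQ).symm

set_option maxHeartbeats 1000000 in
/-- The open piece of a chart has bijective comparison maps. -/
theorem Chart.clopenBij (C : Chart f b) (D : Test b) : ClopenBij (D.map (C.hX ≫ f)).base := by
  let τ := D.k ≫ pullback.fst b D.p
  have hopen : ∀ {P : Scheme.{u}} (α : P ⟶ Y) {S' : Scheme.{u}} (c : S' ⟶ C.T')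
      (z : pullback C.πQ α ⟶ pullback C.q c), WeaklyEtale z →
      z ≫ pullback.fst C.q c = pullback.fst C.πQ α →
      ClopenBij (ovMap (C.hX ≫ f) C.πQ α C.i C.w₂).base := by
    intro P α S' c z _ hz
    have s := (isPullback_ovMap (C.hX ≫ f) C.πQ α C.i C.w₂).flip
    have hb := clopenBij_open C.good c z _ hz
    have hj : s.isoPullback.hom ≫ pullback.fst _ _ = ovMap (C.hX ≫ f) C.πQ α C.i C.w₂ :=
      s.isoPullback_hom_fst
    have := hb.comp (pullback.fst (pullback.fst C.πQ α) C.i).continuous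
      (ClopenBij.homeomorph s.isoPullback.hom.homeomorph) s.isoPullback.hom.continuous
    rw [← hj]
    exact this
  -- over `σ`
  let z : pullback C.πQ D.σ ⟶ pullback C.q (𝟙 C.T') :=
    pullback.lift (pullback.fst _ _) (pullback.fst _ _ ≫ C.q) (by rw [Category.comp_id])
  haveI : WeaklyEtale (pullback.fst C.πQ D.σ) :=
    MorphismProperty.pullback_fst (P := @WeaklyEtale) _ _ inferInstance
  haveI : WeaklyEtale (z ≫ pullback.fst C.q (𝟙 C.T')) := by rw [pullback.lift_fst]; infer_instance
  haveI : WeaklyEtale z := WeaklyEtale.of_comp z (pullback.fst C.q (𝟙 C.T'))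
  have hb₁ := hopen D.σ (𝟙 C.T') z ‹_› (pullback.lift_fst _ _ _)
  -- over the base change
  let c := pullback.fst C.r D.p
  let m : pullback C.q c ⟶ pullback b D.p :=
    pullback.lift (pullback.fst C.q c ≫ C.πQ) (pullback.snd C.q c ≫ pullback.snd C.r D.p) (by
      rw [Category.assoc, C.w₁, pullback.condition_assoc, Category.assoc, pullback.condition])
  have hm : IsPullback (pullback.fst C.q c) m C.πQ (pullback.fst b D.p) := by
    have s := (IsPullback.of_hasPullback C.q c).paste_vert (IsPullback.of_hasPullback C.r D.p)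
    rw [← C.w₁, show pullback.snd C.q c ≫ pullback.snd C.r D.p = m ≫ pullback.snd b D.p from
      (pullback.lift_snd _ _ _).symm] at s
    exact IsPullback.of_bot s (pullback.lift_fst _ _ _).symm (IsPullback.of_hasPullback b D.p)
  let z' : pullback C.πQ τ ⟶ pullback C.q c :=
    hm.lift (pullback.fst _ _) (pullback.snd _ _ ≫ D.k) (by rw [Category.assoc, pullback.condition])
  have hz' : IsPullback z' (pullback.snd C.πQ τ) m D.k := by
    refine IsPullback.of_right ?_ (hm.lift_snd _ _ _) hm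
    rw [hm.lift_fst]
    exact IsPullback.of_hasPullback C.πQ τ
  haveI : WeaklyEtale z' := MorphismProperty.of_isPullback (P := @WeaklyEtale) hz'.flip inferInstance
  have hb₂ := hopen τ c z' ‹_› (hm.lift_fst _ _ _)
  exact (ClopenBij.of_square (D.map C.πQ).continuous (ovMap (C.hX ≫ f) C.πQ τ C.i C.w₂).continuous
    (ovMap (C.hX ≫ f) C.πQ D.σ C.i C.w₂).continuous (D.map (C.hX ≫ f)).continuous hb₂ hb₁ fun x =>
      (congrArg (fun g : pullback (C.hX ≫ f) τ ⟶ pullback C.πQ D.σ => g x)
        (ovMap_bcMap (C.hX ≫ f) C.πQ D.σ τ C.i C.w₂ _ D.comm)).symm).1 (clopenBij_proper C.πQ D)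

variable {A : Set Y} {ι : Type u} {W : ι → Scheme.{u}} (h : ∀ a, W a ⟶ X)
  (hs : ∀ x, ∃ a w, h a w = x)

include hs in
theorem exists_preimage {P : Scheme.{u}} (α : P ⟶ Y) (x : ↥(pullback f α)) :
    ∃ a w, ovMap (h a ≫ f) f α (h a) rfl w = x := by
  obtain ⟨a, w, hw⟩ := hs (pullback.fst f α x)
  obtain ⟨v, hv, hv'⟩ := Scheme.Pullback.exists_preimage_pullback w x hw
  have s := isPullback_ovMap (h a ≫ f) f α (h a) rfl
  refine ⟨a, s.isoPullback.inv v, ?_⟩
  rw [← Scheme.Hom.comp_apply, s.isoPullback_inv_snd]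
  exact hv'

include hs in
/-- **Injectivity descends along jointly surjective families.** -/
theorem injOn_of_family (hb : ∀ a, InjOn (h a ≫ f) b A) : InjOn f b A := fun D hD =>
  ClopenInj.of_family (h := fun a => (ovMap (h a ≫ f) f D.σ (h a) rfl).base)
    (h' := fun a => (ovMap (h a ≫ f) f (D.k ≫ pullback.fst b D.p) (h a) rfl).base)
    (ρ := fun a => (D.map (h a ≫ f)).base) (exists_preimage h hs D.σ)
    (fun _ => Scheme.Hom.continuous _)
    (fun a x => (congrArg (fun g : pullback (h a ≫ f) _ ⟶ pullback f D.σ => g x)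
      (ovMap_bcMap (h a ≫ f) f D.σ _ (h a) rfl _ D.comm)).symm)
    (fun a => hb a D hD)

include hs in
set_option maxHeartbeats 1000000 in
/-- **Bijectivity descends along families which are universally quotient maps**, given injectivity on the
overlaps. -/
theorem bijOn_of_family
    (hq : ∀ {P : Scheme.{u}} (α : P ⟶ Y) (U : Set ↥(pullback f α)),
      (∀ a, IsOpen ((ovMap (h a ≫ f) f α (h a) rfl).base ⁻¹' U)) → IsOpen U)
    (hb : ∀ a, BijOn (h a ≫ f) b A)
    (hP : ∀ a c, InjOn ((pullback.fst (h a) (h c) ≫ h a) ≫ f) b A) :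
    BijOn f b A := by
  intro D hD
  let τ := D.k ≫ pullback.fst b D.p
  let F₂ := fun a c => (pullback.fst (h a) (h c) ≫ h a) ≫ f
  have w₁ : ∀ a c, pullback.fst (h a) (h c) ≫ h a ≫ f = F₂ a c := fun a c =>
    (Category.assoc _ _ _).symm
  have w₂ : ∀ a c, pullback.snd (h a) (h c) ≫ h c ≫ f = F₂ a c := fun a c => by
    rw [← Category.assoc, ← pullback.condition]
  refine ClopenBij.of_family (h := fun a => (ovMap (h a ≫ f) f D.σ (h a) rfl).base)
    (h' := fun a => (ovMap (h a ≫ f) f τ (h a) rfl).base)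
    (ρ := fun a => (D.map (h a ≫ f)).base)
    (p₁ := fun a c => (ovMap (F₂ a c) (h a ≫ f) D.σ (pullback.fst _ _) (w₁ a c)).base)
    (p₂ := fun a c => (ovMap (F₂ a c) (h c ≫ f) D.σ (pullback.snd _ _) (w₂ a c)).base)
    (p₁' := fun a c => (ovMap (F₂ a c) (h a ≫ f) τ (pullback.fst _ _) (w₁ a c)).base)
    (p₂' := fun a c => (ovMap (F₂ a c) (h c ≫ f) τ (pullback.snd _ _) (w₂ a c)).base)
    (ρ₂ := fun a c => (D.map (F₂ a c)).base) (hq D.σ) (exists_preimage h hs D.σ) (exists_preimage h hs τ)
    (fun _ => Scheme.Hom.continuous _) (fun _ => Scheme.Hom.continuous _)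
    (fun a x => (congrArg (fun g : pullback (h a ≫ f) _ ⟶ pullback f D.σ => g x)
      (ovMap_bcMap (h a ≫ f) f D.σ _ (h a) rfl _ D.comm)).symm) ?_
    (fun _ _ => Scheme.Hom.continuous _) (fun _ _ => Scheme.Hom.continuous _)
    (fun a c z => (congrArg (fun g : pullback (F₂ a c) _ ⟶ pullback (h a ≫ f) D.σ => g z)
      (ovMap_bcMap (F₂ a c) (h a ≫ f) D.σ _ _ (w₁ a c) _ D.comm)))
    (fun a c z => (congrArg (fun g : pullback (F₂ a c) _ ⟶ pullback (h c ≫ f) D.σ => g z)
      (ovMap_bcMap (F₂ a c) (h c ≫ f) D.σ _ _ (w₂ a c) _ D.comm)))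
    ?_ (fun a => hb a D hD) (fun _ => Scheme.Hom.continuous _) (fun a c => hP a c D hD)
  · intro a c x y hxy
    exact exists_overlap (h a) (h c) f D.σ rfl rfl (w₁ a c) (w₂ a c) x y hxy
  · intro a c z
    refine (Scheme.Hom.comp_apply _ _ _).symm.trans (Eq.trans ?_ (Scheme.Hom.comp_apply _ _ _))
    refine congrArg (fun g : pullback (F₂ a c) τ ⟶ pullback f τ => g z) ?_
    rw [ovMap_comp _ _ _ f _ (w₁ a c) _ rfl ((Category.assoc _ _ _).trans (w₁ a c)),
      ovMap_comp _ _ _ f _ (w₂ a c) _ rfl ((Category.assoc _ _ _).trans (w₂ a c))]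
    congr 1
    exact pullback.condition

omit hs in
/-- A proper surjection is universally a quotient map. -/
theorem quotient_of_proper {W₁ : Scheme.{u}} (g : W₁ ⟶ X) [IsProper g] [Surjective g] {P : Scheme.{u}}
    (α : P ⟶ Y) (U : Set ↥(pullback f α))
    (hU : IsOpen ((ovMap (g ≫ f) f α g rfl).base ⁻¹' U)) : IsOpen U := by
  let j := ovMap (g ≫ f) f α g rfl
  haveI : IsProper j := MorphismProperty.of_isPullback (P := @IsProper) (isPullback_ovMap _ f α g rfl) ‹_›
  haveI : Surjective j := MorphismProperty.of_isPullback (P := @Surjective) (isPullback_ovMap _ f α g rfl) ‹_›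
  exact (j.isClosedMap.isQuotientMap j.continuous j.surjective).isOpen_preimage.1 hU

include hs in
/-- A jointly surjective family of open immersions is universally a quotient map. -/
theorem quotient_of_open [∀ a, IsOpenImmersion (h a)] {P : Scheme.{u}} (α : P ⟶ Y)
    (U : Set ↥(pullback f α))
    (hU : ∀ a, IsOpen ((ovMap (h a ≫ f) f α (h a) rfl).base ⁻¹' U)) : IsOpen U := by
  refine isOpen_iff_forall_mem_open.2 fun x hx => ?_
  obtain ⟨a, w, hw⟩ := exists_preimage (f := f) h hs α x
  let j := ovMap (h a ≫ f) f α (h a) rfl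
  haveI : IsOpenImmersion j :=
    MorphismProperty.of_isPullback (P := @IsOpenImmersion) (isPullback_ovMap _ f α _ rfl) inferInstance
  exact ⟨j '' (j ⁻¹' U), Set.image_preimage_subset _ _, j.isOpenEmbedding.isOpenMap _ (hU a),
    w, by show j w ∈ U; exact hw.symm ▸ hx, hw⟩

/-- Bijectivity is local on the target. -/
theorem BijOn.of_cover {κ : Type u} {A : κ → Y.Opens} {f : X ⟶ Y} {b : Y ⟶ T} {B : Set Y}
    (hA : B ⊆ ⋃ a, (A a : Set Y)) (h : ∀ a, BijOn f b (A a)) : BijOn f b B := by
  intro D hD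
  obtain ⟨a, ha⟩ := Set.mem_iUnion.1 (hA (hD ⟨closedPoint D.R, rfl⟩))
  exact h a D (range_subset_of_closedPoint_mem D.σ (A a) ha)

set_option maxHeartbeats 1000000 in
/-- Tests over an open of the base and of the target. -/
theorem exists_test {S V A X' : Scheme.{u}} {f : X ⟶ Y} {b : Y ⟶ S} (jA : A ⟶ Y) [IsOpenImmersion jA]
    (jV : V ⟶ S) [IsOpenImmersion jV] (bA : A ⟶ V) (w : jA ≫ b = bA ≫ jV) {fA : X' ⟶ A} {jX : X' ⟶ X}
    (sq : IsPullback jX fA f jA) (B : Set A) (D : Test b) (hDB : Set.range D.σ ⊆ jA '' B) :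
    ∃ D' : Test bA, Set.range D'.σ ⊆ B ∧ (ClopenBij (D'.map fA).base → ClopenBij (D.map f).base) ∧
      (ClopenInj (D'.map fA).base → ClopenInj (D.map f).base) := by
  have hD : Set.range D.σ ⊆ Set.range jA := hDB.trans (Set.image_subset_range _ _)
  let τ := D.k ≫ pullback.fst b D.p
  let σA := IsOpenImmersion.lift jA D.σ hD
  have hσA : σA ≫ jA = D.σ := IsOpenImmersion.lift_fac _ _ _
  haveI : WeaklyEtale (σA ≫ jA) := by rw [hσA]; infer_instance
  haveI : WeaklyEtale σA := WeaklyEtale.of_comp σA jA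
  let p' := pullback.snd D.p jV
  let m : pullback bA p' ⟶ pullback b D.p :=
    pullback.lift (pullback.fst _ _ ≫ jA) (pullback.snd _ _ ≫ pullback.fst _ _) (by
      rw [Category.assoc, w, pullback.condition_assoc, Category.assoc, pullback.condition])
  let τA := Spec.map (CommRingCat.ofHom D.ψ) ≫ σA
  have hτA : τA ≫ jA = τ := by rw [Category.assoc, hσA]; exact D.comm
  let l : Spec (CommRingCat.of D.R') ⟶ pullback D.p jV :=
    pullback.lift (D.k ≫ pullback.snd b D.p) (τA ≫ bA) (by
      rw [Category.assoc, Category.assoc, ← pullback.condition, ← w, ← Category.assoc D.k,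
        ← Category.assoc τA]
      exact congrArg (· ≫ b) hτA.symm)
  let k' : Spec (CommRingCat.of D.R') ⟶ pullback bA p' :=
    pullback.lift τA l (pullback.lift_snd _ _ _).symm
  have hk' : k' ≫ m = D.k := by
    apply pullback.hom_ext
    · rw [Category.assoc, pullback.lift_fst, pullback.lift_fst_assoc]
      exact hτA
    · rw [Category.assoc, pullback.lift_snd, pullback.lift_snd_assoc]
      exact pullback.lift_fst _ _ _
  haveI : WeaklyEtale m := by
    have e₁ : m ≫ pullback.fst b D.p = pullback.fst bA p' ≫ jA := pullback.lift_fst _ _ _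
    have e₂ : m ≫ pullback.snd b D.p = pullback.snd bA p' ≫ pullback.fst D.p jV := pullback.lift_snd _ _ _
    have h2 : IsPullback (pullback.fst bA p') (pullback.snd bA p' ≫ pullback.fst D.p jV) (bA ≫ jV) D.p :=
      (IsPullback.of_hasPullback bA p').paste_vert (IsPullback.of_hasPullback D.p jV).flip
    rw [← w] at h2
    rw [← e₂] at h2
    have h3 : IsPullback (pullback.fst bA p') m jA (pullback.fst b D.p) :=
      IsPullback.of_bot h2 e₁.symm (IsPullback.of_hasPullback b D.p)
    exact MorphismProperty.of_isPullback (P := @WeaklyEtale) h3 inferInstance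
  haveI : WeaklyEtale (k' ≫ m) := by rw [hk']; infer_instance
  haveI : WeaklyEtale k' := WeaklyEtale.of_comp k' m
  let D' : Test bA :=
    { R := D.R, R' := D.R', σ := σA, S' := pullback D.p jV, p := p', k := k', ψ := D.ψ
      comm := (pullback.lift_fst _ _ _).symm }
  have hB : Set.range σA ⊆ B := by
    rintro _ ⟨x, rfl⟩
    obtain ⟨y, hy, e⟩ := hDB ⟨x, rfl⟩
    have : jA (σA x) = D.σ x := by rw [← Scheme.Hom.comp_apply, hσA]
    exact jA.isOpenEmbedding.injective (this.trans e.symm) ▸ hy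
  let τ' := k' ≫ pullback.fst bA p'
  have hτ' : τ' ≫ jA = τ := by
    rw [show τ' = τA from pullback.lift_fst _ _ _]
    exact hτA
  have s₁ : IsPullback (pullback.fst fA σA ≫ jX) (pullback.snd fA σA) f D.σ := by
    rw [← hσA]; exact (IsPullback.of_hasPullback fA σA).paste_horiz sq
  have s₂ : IsPullback (pullback.fst fA τ' ≫ jX) (pullback.snd fA τ') f τ := by
    rw [← hτ']; exact (IsPullback.of_hasPullback fA τ').paste_horiz sq
  have e : ∀ x, D.map f (s₂.isoPullback.hom x) = s₁.isoPullback.hom (D'.map fA x) := fun x => by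
    refine (Scheme.Hom.comp_apply _ _ _).symm.trans (Eq.trans ?_ (Scheme.Hom.comp_apply _ _ _))
    refine congrArg (fun g : pullback fA τ' ⟶ pullback f D.σ => g x) ?_
    apply pullback.hom_ext
    · rw [Category.assoc, bcMap_fst, s₂.isoPullback_hom_fst, Category.assoc, s₁.isoPullback_hom_fst,
        ← Category.assoc, bcMap_fst]
    · rw [Category.assoc, bcMap_snd, ← Category.assoc, s₂.isoPullback_hom_snd, Category.assoc,
        s₁.isoPullback_hom_snd, bcMap_snd]
  refine ⟨D', hB, fun hb => (ClopenBij.of_square (D.map f).continuous s₂.isoPullback.hom.continuous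
    s₁.isoPullback.hom.continuous (D'.map fA).continuous (ClopenBij.homeomorph s₂.isoPullback.hom.homeomorph)
    (ClopenBij.homeomorph s₁.isoPullback.hom.homeomorph) e).2 hb, fun hb => ?_⟩
  intro O O' hO hO' eO
  refine s₁.isoPullback.hom.surjective.preimage_injective ?_
  refine hb _ _ (hO.preimage s₁.isoPullback.hom.continuous) (hO'.preimage s₁.isoPullback.hom.continuous) ?_
  ext x
  simp only [Set.mem_preimage, ← e]
  exact Set.ext_iff.1 eO _

/-- Bijectivity over an open of the base and of the target. -/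
theorem BijOn.image {S V A X' : Scheme.{u}} {f : X ⟶ Y} {b : Y ⟶ S} (jA : A ⟶ Y) [IsOpenImmersion jA]
    (jV : V ⟶ S) [IsOpenImmersion jV] (bA : A ⟶ V) (w : jA ≫ b = bA ≫ jV) {fA : X' ⟶ A} {jX : X' ⟶ X}
    (sq : IsPullback jX fA f jA) {B : Set A} (h : BijOn fA bA B) : BijOn f b (jA '' B) := by
  intro D hD
  obtain ⟨D', hD', hb, -⟩ := exists_test jA jV bA w sq B D hD
  exact hb (h D' hD')

/-- Injectivity over an open of the base and of the target. -/
theorem InjOn.image {S V A X' : Scheme.{u}} {f : X ⟶ Y} {b : Y ⟶ S} (jA : A ⟶ Y) [IsOpenImmersion jA]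
    (jV : V ⟶ S) [IsOpenImmersion jV] (bA : A ⟶ V) (w : jA ≫ b = bA ≫ jV) {fA : X' ⟶ A} {jX : X' ⟶ X}
    (sq : IsPullback jX fA f jA) {B : Set A} (h : InjOn fA bA B) : InjOn f b (jA '' B) := by
  intro D hD
  obtain ⟨D', hD', -, hb⟩ := exists_test jA jV bA w sq B D hD
  exact hb (h D' hD')

theorem BijOn.mono {f : X ⟶ Y} {b : Y ⟶ T} {B B' : Set Y} (h : BijOn f b B) (hB : B' ⊆ B) : BijOn f b B' :=
  fun D hD => h D (hD.trans hB)

theorem InjOn.mono {f : X ⟶ Y} {b : Y ⟶ T} {B B' : Set Y} (h : InjOn f b B) (hB : B' ⊆ B) : InjOn f b B' :=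
  fun D hD => h D (hD.trans hB)

end Groth.ZeroAcyclic.Proper
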