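import Groth.Agent.PropsBasic2.Reduced
import Groth.Agent.Pi1Quot.SigmaFinite
import Groth.Agent.Limits.FlatClosure
import Groth.Agent.Ega4Algebra1.FlatDescent
import Groth.Agent.S2351
import Groth.Agent.S1585
import Groth.Agent.S1668
import Groth.Agent.S7180

/-!
Normal finite models of open subschemes over a field, and geometric normality over algebraically closed
fields.
-/

set_option autoImplicit false
set_option linter.style.haveILetI false

universe u

open CategoryTheory CategoryTheory.Limits AlgebraicGeometry TopologicalSpace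

namespace Groth.ZeroAcyclic.Proper

/-- Normality descends along flat surjective morphisms. -/
theorem isNormalScheme_of_flat_surjective {X Y : Scheme.{u}} (g : X ⟶ Y) [Flat g] [Surjective g]
    (hX : Pi1.IsNormalScheme X) : Pi1.IsNormalScheme Y := by
  intro y
  obtain ⟨x, rfl⟩ := g.surjective y
  letI : Algebra (Y.presheaf.stalk (g x)) (X.presheaf.stalk x) := (g.stalkMap x).hom.toAlgebra
  haveI : IsLocalHom (algebraMap (Y.presheaf.stalk (g x)) (X.presheaf.stalk x)) :=
    inferInstanceAs (IsLocalHom (g.stalkMap x).hom)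
  haveI : Module.Flat (Y.presheaf.stalk (g x)) (X.presheaf.stalk x) :=
    RingHom.flat_algebraMap_iff.1 (Flat.stalkMap g x)
  haveI : Module.FaithfullyFlat (Y.presheaf.stalk (g x)) (X.presheaf.stalk x) :=
    Module.FaithfullyFlat.of_flat_of_isLocalHom
  haveI := (hX x).1
  haveI := (hX x).2
  exact ⟨Groth.Ega4Algebra1.isDomain_of_faithfullyFlat _ (X.presheaf.stalk x),
    Groth.Ega4Algebra1.isIntegrallyClosed_of_faithfullyFlat _ (X.presheaf.stalk x)⟩

/-- Normal schemes over algebraically closed fields stay normal after extension of the field. -/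
theorem isNormalScheme_pullback_of_isAlgClosed {K L : Type u} [Field K] [IsAlgClosed K] [Field L]
    {N : Scheme.{u}} (π : N ⟶ Spec (CommRingCat.of K)) (hN : Pi1.IsNormalScheme N) (φ : K →+* L) :
    Pi1.IsNormalScheme (pullback π (Spec.map (CommRingCat.ofHom φ))) := by
  letI : N.Over (Spec (CommRingCat.of K)) := ⟨π⟩
  letI : Algebra K L := φ.toAlgebra
  have h : ∀ (k' : Type u) [Field k'] [Algebra K k'] [FiniteDimensional K k'] [IsPurelyInseparable K k'],
      Pi1.IsNormalScheme (Curv2.bc K N k') := by
    intro k' _ _ _ _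
    haveI : IsIso (Spec.map (CommRingCat.ofHom (algebraMap K k'))) := by
      haveI : IsIso (CommRingCat.ofHom (algebraMap K k')) :=
        (ConcreteCategory.isIso_iff_bijective _).2
          (IsAlgClosed.algebraMap_bijective_of_isIntegral (k := K) (K := k'))
      infer_instance
    exact Groth.Agent.S7180.result (Curv2.bcFst K N k') hN
  exact Groth.Agent.S1668.result K N h L

/-- The normalization of an integral closed subscheme with a given generic point. -/
theorem exists_normal_component {K : Type u} [Field K] {P : Scheme.{u}} (π : P ⟶ Spec (CommRingCat.of K))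
    [LocallyOfFiniteType π] [QuasiSeparated π] (ξ : P) :
    ∃ (N : Scheme.{u}) (ν : N ⟶ P), IsFinite ν ∧ Pi1.IsNormalScheme N ∧ Set.range ν = closure {ξ} ∧
      ∀ γ : N, (∀ w, w ⤳ γ → w = γ) → ν γ = ξ := by
  haveI : QuasiSeparatedSpace P := quasiSeparatedSpace_of_quasiSeparated π
  let C : Closeds P := ⟨closure {ξ}, isClosed_closure⟩
  let J := Scheme.IdealSheafData.vanishingIdeal C
  have hr : Set.range J.subschemeι = closure {ξ} := Groth.PropsBasic2.range_vanishingIdeal_subschemeι C
  haveI : _root_.AlgebraicGeometry.IsReduced J.subscheme := Groth.PropsBasic2.isReduced_vanishingIdeal_subscheme C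
  obtain ⟨x', hx'⟩ : ξ ∈ Set.range J.subschemeι := hr ▸ subset_closure rfl
  have huniv : Set.univ = closure ({x'} : Set J.subscheme) := by
    refine (Set.eq_univ_of_forall fun z => ?_).symm
    rw [J.subschemeι.isEmbedding.closure_eq_preimage_closure_image, Set.image_singleton, hx', ← hr]
    exact ⟨z, rfl⟩
  haveI : IrreducibleSpace J.subscheme := by
    rw [irreducibleSpace_def]
    show IsIrreducible (Set.univ : Set J.subscheme)
    rw [huniv]
    exact isIrreducible_singleton.closure
  haveI : IsIntegral J.subscheme := isIntegral_of_irreducibleSpace_of_isReduced _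
  let Z := J.subscheme
  haveI : QuasiSeparatedSpace Z := quasiSeparatedSpace_of_quasiSeparated J.subschemeι
  letI : Z.Over (Spec (CommRingCat.of K)) := ⟨J.subschemeι ≫ π⟩
  haveI : LocallyOfFiniteType (Z ↘ Spec (CommRingCat.of K)) :=
    inferInstanceAs (LocallyOfFiniteType (J.subschemeι ≫ π))
  haveI : QuasiCompact (Z.fromSpecStalk (genericPoint Z)) := inferInstance
  haveI : QuasiSeparated (Z.fromSpecStalk (genericPoint Z)) := inferInstance
  obtain ⟨hfin, hdom, -, hint, hnorm⟩ := Groth.Agent.S1585.result K Z
  obtain ⟨_, -, -, hgen, -⟩ := Groth.Agent.S2351.result Z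
  haveI := hfin
  haveI := hdom
  haveI := hint
  refine ⟨_, Curv2.normalizationι Z ≫ J.subschemeι, inferInstance, hnorm, ?_, fun γ hγ => ?_⟩
  · have hs : Set.range (Curv2.normalizationι Z) = Set.univ := by
      refine ((Curv2.normalizationι Z).isClosedMap.isClosed_range.closure_eq).symm.trans ?_
      exact (Curv2.normalizationι Z).denseRange.closure_range
    rw [Scheme.Hom.comp_base, TopCat.coe_comp, Set.range_comp, hs, Set.image_univ, hr]
  · have hγ' : genericPoint (Curv2.normalization Z) = γ := hγ _ ((genericPoint_spec _).specializes trivial)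
    subst hγ'
    rw [Scheme.Hom.comp_apply, show (Curv2.normalizationι Z) (genericPoint _) = genericPoint Z from hgen,
      show genericPoint Z = x' from (genericPoint_spec Z).eq (show IsGenericPoint x' Set.univ from huniv.symm),
      hx']

/-- An open subscheme over a field is dominated by a normal scheme, finite over the ambient scheme, all
whose maximal points lie over the open. -/
theorem exists_normal_model {K : Type u} [Field K] {P U : Scheme.{u}} (π : P ⟶ Spec (CommRingCat.of K))
    [LocallyOfFiniteType π] [QuasiCompact π] [QuasiSeparated π] (j : U ⟶ P) [IsOpenImmersion j] :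
    ∃ (N : Scheme.{u}) (ν : N ⟶ P), IsFinite ν ∧ Pi1.IsNormalScheme N ∧
      (∀ γ : N, (∀ w, w ⤳ γ → w = γ) → ν γ ∈ Set.range j) ∧ Set.range j ⊆ Set.range ν := by
  classical
  haveI : IsLocallyNoetherian P := LocallyOfFiniteType.isLocallyNoetherian π
  haveI : CompactSpace P := QuasiCompact.compactSpace_of_compactSpace π
  haveI : AlgebraicGeometry.IsNoetherian P := {}
  let ι : Set P := {ξ | ξ ∈ Set.range j ∧ ∀ w, w ⤳ ξ → w = ξ}
  have hcomp : ∀ ξ ∈ ι, irreducibleComponent ξ = closure {ξ} := by
    rintro ξ ⟨-, hξ⟩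
    obtain ⟨η, hη⟩ := QuasiSober.sober (isIrreducible_irreducibleComponent (x := ξ))
      isClosed_irreducibleComponent
    obtain rfl : η = ξ := hξ η (hη.specializes mem_irreducibleComponent)
    exact hη.symm
  have hfinι : ι.Finite := by
    refine Set.Finite.of_finite_image (f := irreducibleComponent)
      ((TopologicalSpace.NoetherianSpace.finite_irreducibleComponents (α := P)).subset ?_) ?_
    · rintro _ ⟨ξ, -, rfl⟩
      exact irreducibleComponent_mem_irreducibleComponents ξ
    · intro a ha b hb e
      rw [hcomp a ha, hcomp b hb] at e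
      exact (isGenericPoint_closure (x := a)).eq (e ▸ isGenericPoint_closure (x := b))
  haveI : Finite ι := hfinι.to_subtype
  choose N ν hfin hnorm hrange hmax using fun ξ : ι => exists_normal_component π ξ.1
  haveI := hfin
  refine ⟨∐ N, Sigma.desc ν, Groth.Pi1Quot.isFinite_sigmaDesc ν, fun x => ?_, fun γ hγ => ?_, fun x hx => ?_⟩
  · obtain ⟨i, y, rfl⟩ := (sigmaOpenCover N).exists_eq x
    haveI : IsIso ((Sigma.ι N i).stalkMap y) := inferInstance
    let e := (asIso ((Sigma.ι N i).stalkMap y)).commRingCatIsoToRingEquiv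
    haveI := (hnorm i y).1
    haveI := (hnorm i y).2
    exact ⟨e.toMulEquiv.isDomain _, IsIntegrallyClosed.of_equiv e.symm⟩
  · obtain ⟨i, y, rfl⟩ := (sigmaOpenCover N).exists_eq γ
    have hy : ν i y = i.1 := hmax i y fun w hw =>
      (Sigma.ι N i).isOpenEmbedding.injective (hγ _ (hw.map (Sigma.ι N i).continuous))
    show Sigma.desc ν (Sigma.ι N i y) ∈ _
    rw [← Scheme.Hom.comp_apply, Sigma.ι_desc, hy]
    exact i.2.1
  · obtain ⟨ξ, hξ, hξx⟩ := Groth.Limits.exists_maximal_specializes x
    have hξj : ξ ∈ Set.range j := hξx.mem_open j.isOpenEmbedding.isOpen_range hx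
    obtain ⟨y, hy⟩ := (hrange ⟨ξ, hξj, hξ⟩).ge (specializes_iff_mem_closure.1 hξx)
    exact ⟨Sigma.ι N ⟨ξ, hξj, hξ⟩ y, by rw [← Scheme.Hom.comp_apply, Sigma.ι_desc, hy]⟩

end Groth.ZeroAcyclic.Proper
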