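import Groth.Agent.ZeroAcyclic.Proper.Stage
import Groth.Agent.ZeroAcyclic.Proper.Generic
import Groth.Agent.ZeroAcyclic.Proper.Good
import Groth.Agent.S0384

/-!
Proper normal models exist generically.
-/

set_option autoImplicit false
set_option backward.isDefEq.respectTransparency.types false
set_option linter.style.haveILetI false

universe u

open CategoryTheory CategoryTheory.Limits AlgebraicGeometry TopologicalSpace Opposite Topology

namespace Groth.ZeroAcyclic.Proper

/-- The spectrum of a field has only the zero ideal. -/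
theorem eq_zero_of_mem_field {K : Type u} [Field K] (x : PrimeSpectrum K) {a : K} (h : a ∈ x.asIdeal) : a = 0 := by
  by_contra ha
  exact x.isPrime.ne_top (Ideal.eq_top_of_isUnit_mem _ h (IsUnit.mk0 a ha))

/-- Properties of a morphism over an open pass to its base changes. -/
theorem prop_fst_restrict (Pr : MorphismProperty Scheme.{u}) [Pr.IsStableUnderBaseChange]
    {P T' T : Scheme.{u}} (h : P ⟶ T) (r : T' ⟶ T) (O : T.Opens) (hr : Pr (r ∣_ O)) :
    Pr (pullback.fst h r ∣_ (h ⁻¹ᵁ O)) := by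
  have s := (isPullback_morphismRestrict (pullback.fst h r) (h ⁻¹ᵁ O)).flip.paste_horiz
    (IsPullback.of_hasPullback h r).flip
  rw [← morphismRestrict_ι h O] at s
  have sr := (isPullback_morphismRestrict r O).flip
  let m := sr.lift ((pullback.fst h r ⁻¹ᵁ (h ⁻¹ᵁ O)).ι ≫ pullback.snd h r)
    (pullback.fst h r ∣_ (h ⁻¹ᵁ O) ≫ h ∣_ O) (by rw [Category.assoc]; exact s.w)
  have e : m ≫ (r ⁻¹ᵁ O).ι = (pullback.fst h r ⁻¹ᵁ (h ⁻¹ᵁ O)).ι ≫ pullback.snd h r := sr.lift_fst _ _ _
  rw [← e] at s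
  exact MorphismProperty.of_isPullback (IsPullback.of_right s (sr.lift_snd _ _ _) sr) hr

/-- A finite morphism to an open of `T` restricts to a finite morphism over smaller opens. -/
theorem isFinite_restrict {T' D T : Scheme.{u}} (rD : T' ⟶ D) (jD : D ⟶ T) [IsFinite rD] [IsOpenImmersion jD]
    (O : T.Opens) (hO : (O : Set T) ⊆ Set.range jD) : IsFinite ((rD ≫ jD) ∣_ O) := by
  haveI : IsIso (jD ∣_ O) := by
    haveI : Surjective (jD ∣_ O) := ⟨fun y => by
      obtain ⟨z, hz⟩ := hO y.2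
      refine ⟨⟨z, show jD z ∈ O by rw [hz]; exact y.2⟩, O.ι.isOpenEmbedding.injective ?_⟩
      rw [← Scheme.Hom.comp_apply, morphismRestrict_ι]
      exact hz⟩
    haveI : Epi (jD ∣_ O).base := (TopCat.epi_iff_surjective _).2 (jD ∣_ O).surjective
    exact IsOpenImmersion.isIso _
  haveI : IsFinite (rD ∣_ (jD ⁻¹ᵁ O)) :=
    MorphismProperty.of_isPullback (isPullback_morphismRestrict rD _).flip ‹IsFinite rD›
  rw [morphismRestrict_comp]
  exact MorphismProperty.comp_mem _ _ _ inferInstance inferInstance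

set_option maxHeartbeats 2000000 in
/-- **Proper normal models exist generically.** -/
theorem exists_chart {T Y X : Scheme.{u}} [IsAffine T] [IsNoetherian T] [IrreducibleSpace T] (b : Y ⟶ T)
    [IsAffine Y] [LocallyOfFiniteType b] (f : X ⟶ Y) [LocallyOfFiniteType f] [QuasiCompact f] [IsSeparated f] :
    ∃ O : T.Opens, (O : Set T).Nonempty ∧ IsAffineOpen O ∧ Nonempty (Chart (f ∣_ (b ⁻¹ᵁ O)) (b ∣_ O)) := by
  classical
  haveI : CompactSpace Y := inferInstance
  haveI : QuasiCompact b := quasiCompact_of_compactSpace b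
  haveI : QuasiSeparated b := inferInstance
  obtain ⟨P, j, gP, hj, hjq, hgP, hf⟩ := Groth.Agent.S0384.result f
  subst hf
  haveI := hj
  haveI := hjq
  haveI := hgP
  let π : P ⟶ T := gP ≫ b
  -- the function field
  let R : Type u := Γ(T, ⊤)
  let iT : Spec (CommRingCat.of R) ⟶ T := T.isoSpec.inv
  haveI : IrreducibleSpace (PrimeSpectrum R) :=
    T.isoSpec.hom.homeomorph.irreducibleSpace_iff.1 ‹IrreducibleSpace T›
  obtain ⟨K, _, _, _, hker, hint⟩ := exists_field R
    (PrimeSpectrum.irreducibleSpace_iff_isPrime_nilradical.1 ‹_›)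
  let aK := Spec.map (CommRingCat.ofHom (algebraMap R K))
  let τ : Spec (CommRingCat.of K) ⟶ T := aK ≫ iT
  have hτ : τ default = genericPoint T := by
    have h1 : IsGenericPoint (τ default) (Set.univ : Set T) := by
      refine Set.eq_univ_of_forall fun z => specializes_iff_mem_closure.1 ?_
      obtain ⟨p, rfl⟩ := T.isoSpec.inv.surjective z
      show iT.base _ ⤳ iT.base p
      refine Specializes.map ?_ iT.continuous
      refine (PrimeSpectrum.le_iff_specializes _ p).1 fun r hr => ?_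
      have h0 : algebraMap R K r = 0 := eq_zero_of_mem_field (K := K) (default : Spec (CommRingCat.of K)) hr
      exact nilradical_le_prime p.asIdeal (mem_nilradical.2 (hker r h0))
    exact h1.eq (genericPoint_spec T)
  -- the normal model over the function field
  let PK := pullback π τ
  let jK : pullback (pullback.fst π τ) j ⟶ PK := pullback.fst (pullback.fst π τ) j
  haveI : LocallyOfFiniteType π := inferInstanceAs (LocallyOfFiniteType (gP ≫ b))
  haveI : QuasiCompact π := inferInstanceAs (QuasiCompact (gP ≫ b))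
  haveI : QuasiSeparated π := inferInstanceAs (QuasiSeparated (gP ≫ b))
  let πK : PK ⟶ Spec (CommRingCat.of K) := pullback.snd π τ
  obtain ⟨N, ν, hν, hN, hmax, hsurj⟩ := exists_normal_model πK jK
  haveI := hν
  haveI : IsLocallyNoetherian PK := LocallyOfFiniteType.isLocallyNoetherian πK
  haveI : LocallyOfFinitePresentation ν := LocallyOfFinitePresentation.iff_locallyOfFiniteType.2 inferInstance
  obtain ⟨A₀, hA₀⟩ := exists_proper_model π iT ν
  obtain ⟨A, hle, s, ψ, hψ, hψc⟩ := exists_finite_stage R K hint A₀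
  obtain ⟨Q, hom, map, hhom, hlfp, hsq⟩ := hA₀ A hle
  haveI := hhom
  haveI := hlfp
  let T' : Scheme.{u} := Spec (CommRingCat.of A.1)
  let r : T' ⟶ T := (toBase (K := K) iT).app (op A)
  let e : Spec (CommRingCat.of K) ⟶ T' := (cone R K).π.app (op A)
  have her : e ≫ r = τ := toBase_w iT (op A)
  let homA : Q ⟶ pullback π r := hom
  haveI : IsProper homA := ‹IsProper hom›
  haveI : LocallyOfFinitePresentation homA := ‹LocallyOfFinitePresentation hom›
  let fstP : pullback π r ⟶ P := pullback.fst π r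
  let sndP : pullback π r ⟶ T' := pullback.snd π r
  let q : Q ⟶ T' := homA ≫ sndP
  let pr : Q ⟶ P := homA ≫ fstP
  let cA : PK ⟶ pullback π r := pullback.lift (pullback.fst π τ) (pullback.snd π τ ≫ e)
    (by rw [Category.assoc, her, pullback.condition])
  have hsq' : IsPullback map ν homA cA := hsq
  have hcA : IsPullback cA πK sndP e := by
    refine IsPullback.of_right ?_ (pullback.lift_snd _ _ _) (IsPullback.of_hasPullback π r)
    rw [pullback.lift_fst, her]
    exact IsPullback.of_hasPullback π τ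
  have hQN : IsPullback map (ν ≫ πK) q e := hsq'.paste_vert hcA
  have hpr : map ≫ pr = ν ≫ pullback.fst π τ := by
    show map ≫ homA ≫ fstP = _
    rw [← Category.assoc, hsq'.w, Category.assoc, pullback.lift_fst]
  have hprπ : pr ≫ π = q ≫ r := by
    show (homA ≫ fstP) ≫ π = (homA ≫ sndP) ≫ r
    rw [Category.assoc, Category.assoc, pullback.condition]
  -- the base
  haveI : IsNoetherianRing R := IsLocallyNoetherian.component_noetherian ⟨⊤, isAffineOpen_top T⟩
  haveI : Algebra.FiniteType R A.1 := A.1.fg_iff_finiteType.1 A.2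
  haveI : IsNoetherianRing A.1 := Algebra.FiniteType.isNoetherianRing R _
  haveI : IsNoetherianRing (CommRingCat.of A.1) := ‹IsNoetherianRing A.1›
  haveI : IsNoetherian T' := inferInstanceAs (IsNoetherian (Spec (CommRingCat.of A.1)))
  haveI : IsDomain (CommRingCat.of A.1) := inferInstanceAs (IsDomain A.1)
  haveI : IsIntegral T' := inferInstanceAs (IsIntegral (Spec (CommRingCat.of A.1)))
  have heη : e default = genericPoint T' := by
    have h1 : IsGenericPoint (e default) (Set.univ : Set T') := by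
      refine Set.eq_univ_of_forall fun z => specializes_iff_mem_closure.1
        ((PrimeSpectrum.le_iff_specializes _ z).1 fun a ha => ?_)
      have h0 : (a : K) = 0 := eq_zero_of_mem_field (K := K) (default : Spec (CommRingCat.of K)) ha
      rw [show a = 0 from Subtype.ext h0]
      exact zero_mem _
    exact h1.eq (genericPoint_spec T')
  -- finiteness over an open
  let D : Scheme.{u} := Spec (CommRingCat.of (Localization.Away s))
  let rD : T' ⟶ D := Spec.map (CommRingCat.ofHom ψ)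
  let jD : D ⟶ T := Spec.map (CommRingCat.ofHom (algebraMap R (Localization.Away s))) ≫ iT
  have hrD : rD ≫ jD = r := by
    refine (Category.assoc _ _ _).symm.trans (congrArg (· ≫ iT) ?_)
    exact (Spec.map_comp _ _).symm.trans (congrArg (fun φ => Spec.map (CommRingCat.ofHom φ)) hψc)
  haveI : IsFinite rD := (IsFinite.SpecMap_iff _).2 hψ
  haveI : IsOpenImmersion (Spec.map (CommRingCat.ofHom (algebraMap R (Localization.Away s)))) :=
    IsOpenImmersion.of_isLocalization s
  haveI : IsOpenImmersion jD := inferInstanceAs (IsOpenImmersion (_ ≫ iT))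
  have hfib : ∀ x : T', r x = genericPoint T → x = genericPoint T' := by
    intro x hx
    have h1 : r (genericPoint T') = genericPoint T := by rw [← heη, ← Scheme.Hom.comp_apply, her, hτ]
    have h2 : rD x = rD (genericPoint T') := jD.isOpenEmbedding.injective (by
      rw [← Scheme.Hom.comp_apply, ← Scheme.Hom.comp_apply, hrD, hx, h1])
    have hle : (genericPoint T' : PrimeSpectrum A.1).asIdeal ≤ (x : PrimeSpectrum A.1).asIdeal :=
      (PrimeSpectrum.le_iff_specializes (genericPoint T' : PrimeSpectrum A.1) x).2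
        ((genericPoint_spec T').specializes trivial)
    refine PrimeSpectrum.ext (le_antisymm (fun a ha => ?_) hle)
    by_contra hna
    letI := ψ.toAlgebra
    have hint' : IsIntegral (Localization.Away s) a := hψ.to_isIntegral a
    exact (Ideal.comap_lt_comap_of_integral_mem_sdiff (R := Localization.Away s) hle ⟨ha, hna⟩ hint').ne
      (congrArg PrimeSpectrum.asIdeal h2).symm
  -- the open part
  let W₀ := pullback j pr
  let h₀ : W₀ ⟶ X := pullback.fst j pr
  let i₀ : W₀ ⟶ Q := pullback.snd j pr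
  have hi₀ : Set.range i₀ = pr ⁻¹' Set.range j := Scheme.Pullback.range_snd j pr
  haveI : IsOpenImmersion i₀ := MorphismProperty.pullback_snd (P := @IsOpenImmersion) _ _ ‹_›
  -- properties over opens
  haveI : LocallyOfFiniteType r := by
    rw [← hrD]; infer_instance
  haveI : QuasiCompact r := quasiCompact_of_compactSpace r
  haveI : LocallyOfFiniteType sndP := MorphismProperty.pullback_snd (P := @LocallyOfFiniteType) _ _ ‹_›
  haveI : QuasiCompact sndP := MorphismProperty.pullback_snd (P := @QuasiCompact) _ _ ‹_›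
  haveI : QuasiSeparated sndP := MorphismProperty.pullback_snd (P := @QuasiSeparated) _ _ ‹_›
  haveI : LocallyOfFiniteType fstP := MorphismProperty.pullback_fst (P := @LocallyOfFiniteType) _ _ ‹_›
  haveI : QuasiCompact fstP := MorphismProperty.pullback_fst (P := @QuasiCompact) _ _ ‹_›
  haveI : LocallyOfFiniteType q := inferInstanceAs (LocallyOfFiniteType (homA ≫ sndP))
  haveI : QuasiCompact q := inferInstanceAs (QuasiCompact (homA ≫ sndP))
  haveI : QuasiSeparated q := inferInstanceAs (QuasiSeparated (homA ≫ sndP))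
  haveI : LocallyOfFiniteType pr := inferInstanceAs (LocallyOfFiniteType (homA ≫ fstP))
  haveI : QuasiCompact pr := inferInstanceAs (QuasiCompact (homA ≫ fstP))
  haveI : IsLocallyNoetherian Q := LocallyOfFiniteType.isLocallyNoetherian q
  have hNq : Pi1.IsNormalScheme (pullback q e) := Groth.Agent.S7180.result hQN.isoPullback.inv hN
  obtain ⟨G₁, hG₁, hnormal⟩ := exists_open_normal_fibres q e heη hNq
  have hmaxQ : ∀ γ : ↥(pullback q e), (∀ w, w ⤳ γ → w = γ) → pullback.fst q e γ ∈ Set.range i₀ := by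
    intro γ hγ
    let θ := hQN.isoPullback
    obtain ⟨n, rfl⟩ := θ.hom.surjective γ
    have h1 : ν n ∈ Set.range jK :=
      hmax n fun w hw => θ.hom.isOpenEmbedding.injective (hγ _ (hw.map θ.hom.continuous))
    rw [← Scheme.Hom.comp_apply, hQN.isoPullback_hom_fst, hi₀, Set.mem_preimage, ← Scheme.Hom.comp_apply, hpr,
      Scheme.Hom.comp_apply]
    exact (Scheme.Pullback.range_fst (pullback.fst π τ) j).le h1
  obtain ⟨G₂, hG₂, hdense⟩ := exists_open_dense_fibres q e heη i₀ hmaxQ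
  obtain ⟨U₃, hU₃, hflat, hfp⟩ := Groth.FlatMorOne.exists_dense_flat_finitePresentation q
  have hG₃ : genericPoint T' ∈ U₃ :=
    (genericPoint_spec T').mem_open_set_iff U₃.2 |>.2 (by simpa using hU₃.nonempty)
  haveI : LocallyOfFiniteType (j ≫ π) := inferInstance
  haveI : IsLocallyNoetherian X := LocallyOfFiniteType.isLocallyNoetherian (j ≫ π)
  haveI : CompactSpace X := QuasiCompact.compactSpace_of_compactSpace (j ≫ π)
  haveI : IsNoetherian X := {}
  haveI : LocallyOfFiniteType h₀ := MorphismProperty.pullback_fst (P := @LocallyOfFiniteType) _ _ ‹_›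
  haveI : QuasiCompact h₀ := MorphismProperty.pullback_fst (P := @QuasiCompact) _ _ ‹_›
  obtain ⟨G₄, hG₄, hsurjO⟩ := exists_open_surjective h₀ (j ≫ π) (fun x hx => by
    obtain ⟨z, hz, -⟩ := Scheme.Pullback.exists_preimage_pullback (f := π) (g := τ) (j x) default
      (by rw [← Scheme.Hom.comp_apply, hx, hτ])
    have hz' : z ∈ Set.range jK := (Scheme.Pullback.range_fst (pullback.fst π τ) j).ge ⟨x, hz.symm⟩
    obtain ⟨n, hn⟩ := hsurj hz'
    have h1 : pr (map n) = j x := by rw [← Scheme.Hom.comp_apply, hpr, Scheme.Hom.comp_apply, hn, hz]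
    obtain ⟨w, hw, -⟩ := Scheme.Pullback.exists_preimage_pullback (f := j) (g := pr) x (map n) h1.symm
    exact ⟨w, hw⟩)
  -- the open of the base
  let G : T'.Opens := G₁ ⊓ G₂ ⊓ U₃
  let GD : D.Opens := ⟨(rD '' (G : Set T')ᶜ)ᶜ, (rD.isClosedMap _ G.2.isClosed_compl).isOpen_compl⟩
  let GT : T.Opens := (jD ''ᵁ GD) ⊓ G₄
  have hη : genericPoint T ∈ GT := by
    refine ⟨⟨rD (genericPoint T'), ?_, ?_⟩, hG₄⟩
    · rintro ⟨x, hx, hxe⟩
      refine hx ?_
      have : r x = genericPoint T := by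
        rw [← hrD, Scheme.Hom.comp_apply, hxe, ← Scheme.Hom.comp_apply, hrD, ← heη, ← Scheme.Hom.comp_apply,
          her, hτ]
      rw [hfib x this]
      exact ⟨⟨hG₁, hG₂⟩, hG₃⟩
    · refine (congrArg (fun x => jD (rD x)) heη.symm).trans ?_
      refine ((Scheme.Hom.comp_apply _ _ _).symm.trans (congrArg (fun m : T' ⟶ T => m (e default)) hrD)).trans ?_
      exact ((Scheme.Hom.comp_apply _ _ _).symm.trans
        (congrArg (fun m : Spec (CommRingCat.of K) ⟶ T => m default) her)).trans hτ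
  obtain ⟨_, ⟨O, hO, rfl⟩, hηO, hOG⟩ := T.isBasis_affineOpens.exists_subset_of_mem_open hη GT.2
  change T.Opens at O
  refine ⟨O, ⟨_, hηO⟩, hO, ⟨?_⟩⟩
  have hOr : (O : Set T) ⊆ Set.range jD := fun x hx => by
    obtain ⟨y, -, rfl⟩ := (hOG hx).1
    exact ⟨y, rfl⟩
  have hrG : r ⁻¹ᵁ O ≤ G := fun x hx => by
    obtain ⟨y, hy, hye⟩ := (hOG (show r x ∈ (O : Set T) from hx)).1
    by_contra hxG
    refine hy ⟨x, hxG, jD.isOpenEmbedding.injective ?_⟩
    rw [← Scheme.Hom.comp_apply, hrD]
    exact hye.symm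
  haveI hrfin : IsFinite (r ∣_ O) := by
    rw [← hrD]; exact isFinite_restrict rD jD O hOr
  let VY : Y.Opens := b ⁻¹ᵁ O
  let πQ : Q ⟶ Y := pr ≫ gP
  have w₁ : πQ ≫ b = q ≫ r := (Category.assoc _ _ _).trans hprπ
  haveI hprV : IsProper (pr ∣_ (gP ⁻¹ᵁ VY)) := by
    haveI : IsProper (fstP ∣_ (gP ⁻¹ᵁ VY)) :=
      prop_fst_restrict @IsProper π r O (inferInstanceAs (IsProper (r ∣_ O)))
    haveI : IsProper (homA ∣_ (fstP ⁻¹ᵁ (gP ⁻¹ᵁ VY))) :=
      MorphismProperty.of_isPullback (isPullback_morphismRestrict homA _).flip ‹IsProper homA›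
    rw [morphismRestrict_comp]
    exact MorphismProperty.comp_mem _ _ _ inferInstance inferInstance
  haveI : IsProper (πQ ∣_ VY) := by
    haveI : IsProper (gP ∣_ VY) :=
      MorphismProperty.of_isPullback (isPullback_morphismRestrict gP _).flip ‹IsProper gP›
    rw [morphismRestrict_comp]
    exact MorphismProperty.comp_mem _ _ _ inferInstance inferInstance
  let Q' : Q.Opens := πQ ⁻¹ᵁ VY
  have hQ' : Q' = q ⁻¹ᵁ (r ⁻¹ᵁ O) := congrArg (fun m : Q ⟶ T => m ⁻¹ᵁ O) w₁
  let q' : (Q' : Scheme.{u}) ⟶ (r ⁻¹ᵁ O : T'.Opens) := (Q.isoOfEq hQ').hom ≫ q ∣_ (r ⁻¹ᵁ O)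
  have hq' : IsPullback Q'.ι q' q (r ⁻¹ᵁ O).ι := by
    have h1 : IsPullback (Q.isoOfEq hQ').hom q' (q ∣_ (r ⁻¹ᵁ O)) (𝟙 _) :=
      IsPullback.of_horiz_isIso ⟨(Category.comp_id _).symm⟩
    have h2 := h1.paste_horiz (isPullback_morphismRestrict q (r ⁻¹ᵁ O)).flip
    rwa [Category.id_comp, Scheme.isoOfEq_hom_ι] at h2
  have hac : EtAcyc.IsULocZeroAcyclic q' := by
    haveI : Flat (q ∣_ (r ⁻¹ᵁ O)) :=
      Groth.GenGeomRed.prop_restrict_mono (P := @Flat) _ (hrG.trans inf_le_right) hflat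
    haveI : Flat q' := inferInstanceAs (Flat ((Q.isoOfEq hQ').hom ≫ q ∣_ (r ⁻¹ᵁ O)))
    refine Groth.Agent.S3474.result q' (fun L _ y => ?_) (Or.inl ⟨inferInstance, inferInstance⟩)
    have h1 := hnormal L (y ≫ (r ⁻¹ᵁ O).ι) (by
      rw [Scheme.Hom.comp_apply]; exact (hrG (y default).2).1.1)
    have h2 := Groth.Agent.S7180.result ((IsPullback.of_hasPullback q' y).paste_horiz hq').isoPullback.hom h1
    haveI : ∀ x, _root_.IsReduced ((pullback q' y).presheaf.stalk x) := fun x => by
      haveI := (h2 x).1; infer_instance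
    exact isReduced_of_isReduced_stalk _
  let W' : W₀.Opens := h₀ ⁻¹ᵁ ((j ≫ gP) ⁻¹ᵁ VY)
  have hiW : Set.range (W'.ι ≫ i₀) ⊆ Set.range Q'.ι := by
    rintro _ ⟨w, rfl⟩
    rw [Scheme.Opens.range_ι, Scheme.Hom.comp_apply]
    show πQ (i₀ (W'.ι w)) ∈ VY
    have h1 : i₀ ≫ πQ = h₀ ≫ j ≫ gP := by
      show i₀ ≫ pr ≫ gP = _
      rw [← Category.assoc, ← pullback.condition, Category.assoc]
    rw [← Scheme.Hom.comp_apply, h1, Scheme.Hom.comp_apply]
    exact w.2
  let i' : (W' : Scheme.{u}) ⟶ Q' := IsOpenImmersion.lift Q'.ι (W'.ι ≫ i₀) hiW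
  have hi' : i' ≫ Q'.ι = W'.ι ≫ i₀ := IsOpenImmersion.lift_fac _ _ _
  haveI : IsOpenImmersion i' := by
    haveI : IsOpenImmersion (i' ≫ Q'.ι) := by rw [hi']; infer_instance
    exact IsOpenImmersion.of_comp i' Q'.ι
  haveI : IsLocallyNoetherian (Q' : Scheme.{u}) := inferInstance
  haveI : IsProper (h₀ ∣_ ((j ≫ gP) ⁻¹ᵁ VY)) := prop_fst_restrict @IsProper j pr (gP ⁻¹ᵁ VY) hprV
  haveI : Surjective (h₀ ∣_ ((j ≫ gP) ⁻¹ᵁ VY)) := ⟨fun x => by
    obtain ⟨w, hw⟩ := hsurjO x.1 ((hOG (show (j ≫ π) x.1 ∈ (O : Set T) from x.2)).2)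
    refine ⟨⟨w, show h₀ w ∈ (j ≫ gP) ⁻¹ᵁ VY by rw [hw]; exact x.2⟩, ((j ≫ gP) ⁻¹ᵁ VY).ι.isOpenEmbedding.injective ?_⟩
    rw [← Scheme.Hom.comp_apply, morphismRestrict_ι]
    exact hw⟩
  refine
    { W := W', Q := Q', T' := (r ⁻¹ᵁ O : T'.Opens), q := q', r := r ∣_ O, i := i', πQ := πQ ∣_ VY
      w₁ := ?_, hX := h₀ ∣_ ((j ≫ gP) ⁻¹ᵁ VY), w₂ := ?_
      good := ⟨hac, fun L _ y => ?_, fun x hx => ?_⟩ }
  · rw [← cancel_mono O.ι, Category.assoc, Category.assoc, morphismRestrict_ι, morphismRestrict_ι,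
      ← Category.assoc q', ← hq'.w, Category.assoc]
    exact (morphismRestrict_ι_assoc πQ VY b).trans (congrArg (Q'.ι ≫ ·) w₁)
  · rw [← cancel_mono VY.ι, Category.assoc, Category.assoc, morphismRestrict_ι, morphismRestrict_ι,
      reassoc_of% hi', morphismRestrict_ι_assoc]
    show W'.ι ≫ i₀ ≫ pr ≫ gP = W'.ι ≫ h₀ ≫ j ≫ gP
    rw [← pullback.condition_assoc]
  · have h1 := hnormal L (y ≫ (r ⁻¹ᵁ O).ι) (by
      rw [Scheme.Hom.comp_apply]; exact (hrG (y default).2).1.1)
    exact Groth.Agent.S7180.result ((IsPullback.of_hasPullback q' y).paste_horiz hq').isoPullback.hom h1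
  · have hqx : q x.1 = (r ⁻¹ᵁ O).ι (q' x) := by
      rw [← Scheme.Hom.comp_apply, ← hq'.w, Scheme.Hom.comp_apply]; rfl
    obtain ⟨w, hw⟩ := hdense x.1 (by rw [hqx]; exact (hrG (q' x).2).1.2) fun x' hx' hqx' => by
      let x'' : (Q' : Scheme.{u}) := ⟨x', hx'.mem_open Q'.2 x.2⟩
      have h2 := hx x'' (Q'.ι.isEmbedding.isInducing.specializes_iff.1 hx') ((r ⁻¹ᵁ O).ι.isOpenEmbedding.injective (by
        rw [← Scheme.Hom.comp_apply, ← Scheme.Hom.comp_apply, ← hq'.w, Scheme.Hom.comp_apply,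
          Scheme.Hom.comp_apply]
        exact hqx'))
      exact congrArg Subtype.val h2
    have hwW : w ∈ W' := by
      show (j ≫ gP) (h₀ w) ∈ VY
      have h1 : h₀ ≫ j ≫ gP = i₀ ≫ πQ := by rw [pullback.condition_assoc]
      rw [← Scheme.Hom.comp_apply, h1, Scheme.Hom.comp_apply, hw]
      exact x.2
    refine ⟨⟨w, hwW⟩, Q'.ι.isOpenEmbedding.injective ?_⟩
    rw [← Scheme.Hom.comp_apply, hi', Scheme.Hom.comp_apply]
    exact hw

end Groth.ZeroAcyclic.Proper
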