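import Groth.Agent.ZeroAcyclic.Proper.FGSystem
import Groth.Agent.Limits.ProperDescent
import Groth.Agent.SpectralTopology.DescendFP
import Mathlib.RingTheory.FiniteType
import Mathlib.FieldTheory.IsAlgClosed.AlgebraicClosure

/-!
Models over finite extensions of an open of the base of a proper scheme over an algebraic closure of
the function field.
-/

set_option autoImplicit false
set_option backward.isDefEq.respectTransparency.types false
set_option linter.style.haveILetI false

universe u

open CategoryTheory CategoryTheory.Limits AlgebraicGeometry TopologicalSpace Opposite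

namespace Groth.ZeroAcyclic.Proper

/-- An algebraic closure of the function field of the reduction. -/
theorem exists_field (R : Type u) [CommRing R] (hp : (nilradical R).IsPrime) :
    ∃ (K : Type u) (_ : Field K) (_ : IsAlgClosed K) (_ : Algebra R K),
      (∀ r : R, algebraMap R K r = 0 → IsNilpotent r) ∧
        ∀ x : K, ∃ s : R, algebraMap R K s ≠ 0 ∧ IsIntegral R (algebraMap R K s * x) := by
  haveI := hp
  let D := R ⧸ nilradical R
  let k := FractionRing D
  refine ⟨AlgebraicClosure k, inferInstance, inferInstance, inferInstance, fun r hr => ?_, fun x => ?_⟩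
  · rw [IsScalarTower.algebraMap_apply R k (AlgebraicClosure k), map_eq_zero,
      IsScalarTower.algebraMap_apply R D k, IsFractionRing.to_map_eq_zero_iff, Ideal.Quotient.algebraMap_eq,
      Ideal.Quotient.eq_zero_iff_mem] at hr
    exact hr
  · have hx : IsAlgebraic D x :=
      (IsFractionRing.isAlgebraic_iff D k (AlgebraicClosure k)).2 (Algebra.IsAlgebraic.isAlgebraic x)
    obtain ⟨y, hy, hint⟩ := hx.exists_integral_multiple
    obtain ⟨s, rfl⟩ := Ideal.Quotient.mk_surjective y
    have e : algebraMap R (AlgebraicClosure k) s = algebraMap D (AlgebraicClosure k) (Ideal.Quotient.mk _ s) :=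
      IsScalarTower.algebraMap_apply R D (AlgebraicClosure k) s
    refine ⟨s, ?_, ?_⟩
    · rw [e, IsScalarTower.algebraMap_apply D k (AlgebraicClosure k), ne_eq, map_eq_zero,
        IsFractionRing.to_map_eq_zero_iff]
      exact hy
    · rw [e, ← Algebra.smul_def]
      haveI : Algebra.IsIntegral R D := ⟨fun z => by
        obtain ⟨r, rfl⟩ := Ideal.Quotient.mk_surjective z
        exact isIntegral_algebraMap⟩
      exact isIntegral_trans (R := R) _ hint

/-- Finitely generated subalgebras become finite over a localisation of the base. -/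
theorem exists_finite_stage (R K : Type u) [CommRing R] [Field K] [Algebra R K]
    (hK : ∀ x : K, ∃ s : R, algebraMap R K s ≠ 0 ∧ IsIntegral R (algebraMap R K s * x)) (A₀ : FG R K) :
    ∃ (A : FG R K) (_ : A₀ ≤ A) (s : R) (ψ : Localization.Away s →+* A.1),
      ψ.Finite ∧ ψ.comp (algebraMap R _) = algebraMap R A.1 := by
  classical
  obtain ⟨G, hG⟩ := A₀.2
  choose d hd hdint using hK
  let s : R := ∏ g ∈ G, d g
  have hs : algebraMap R K s ≠ 0 := by
    rw [map_prod]
    exact Finset.prod_ne_zero_iff.2 fun g _ => hd g
  have hsint : ∀ g ∈ G, IsIntegral R (algebraMap R K s * g) := fun g hg => by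
    rw [show s = d g * ∏ h ∈ G.erase g, d h from (Finset.mul_prod_erase G d hg).symm, map_mul, mul_comm (algebraMap R K (d g)),
      mul_assoc]
    exact isIntegral_algebraMap.mul (hdint g)
  let gens : Set K := insert (algebraMap R K s)⁻¹ (G : Set K)
  let A : FG R K := ⟨Algebra.adjoin R gens, Subalgebra.fg_def.2 ⟨_, G.finite_toSet.insert _, rfl⟩⟩
  have hle : A₀ ≤ A := by
    show A₀.1 ≤ A.1
    rw [← hG]
    exact Algebra.adjoin_mono (Set.subset_insert _ _)
  have hu : IsUnit (algebraMap R A.1 s) :=
    IsUnit.of_mul_eq_one (⟨(algebraMap R K s)⁻¹, Algebra.subset_adjoin (Set.mem_insert _ _)⟩ : A.1)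
      (Subtype.ext (mul_inv_cancel₀ hs))
  let ψ : Localization.Away s →+* A.1 := IsLocalization.Away.lift s hu
  have hψ : ψ.comp (algebraMap R _) = algebraMap R A.1 := IsLocalization.Away.lift_comp s hu
  refine ⟨A, hle, s, ψ, ?_, hψ⟩
  letI := ψ.toAlgebra
  haveI : IsScalarTower R (Localization.Away s) A.1 := IsScalarTower.of_algebraMap_eq' hψ.symm
  haveI : Algebra.FiniteType R A.1 := A.1.fg_iff_finiteType.1 A.2
  have hft : ψ.FiniteType :=
    RingHom.finiteType_algebraMap.2 (Algebra.FiniteType.of_restrictScalars_finiteType R (Localization.Away s) A.1)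
  refine RingHom.IsIntegral.to_finite (fun a => ?_) hft
  obtain ⟨a, ha⟩ := a
  induction ha using Algebra.adjoin_induction with
  | mem x hx =>
    rcases hx with rfl | hx
    · have e : (⟨(algebraMap R K s)⁻¹, Algebra.subset_adjoin (Set.mem_insert _ _)⟩ : A.1) =
          ψ (IsLocalization.Away.invSelf s) := by
        refine hu.mul_left_cancel ?_
        rw [← RingHom.congr_fun hψ s, RingHom.comp_apply, ← map_mul, IsLocalization.Away.mul_invSelf, map_one]
        apply Subtype.ext
        rw [← RingHom.comp_apply, hψ]
        exact mul_inv_cancel₀ hs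
      rw [e]
      exact RingHom.isIntegralElem_map _
    · have h1 : IsIntegral R (algebraMap R A.1 s * ⟨x, Algebra.subset_adjoin (Set.mem_insert_of_mem _ hx)⟩) :=
        (isIntegral_algHom_iff A.1.val Subtype.val_injective).1 (hsint x hx)
      have h2 : IsIntegral (Localization.Away s) (algebraMap R A.1 s * ⟨x, Algebra.subset_adjoin (Set.mem_insert_of_mem _ hx)⟩) :=
        h1.tower_top
      have h3 := (isIntegral_algebraMap (R := Localization.Away s) (A := A.1)
        (x := IsLocalization.Away.invSelf s)).mul h2
      rwa [IsScalarTower.algebraMap_apply R (Localization.Away s) A.1, ← mul_assoc, ← map_mul,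
        mul_comm (IsLocalization.Away.invSelf s), IsLocalization.Away.mul_invSelf, map_one, one_mul] at h3
  | algebraMap r =>
    rw [show (⟨algebraMap R K r, _⟩ : A.1) = algebraMap R A.1 r from rfl,
      IsScalarTower.algebraMap_apply R (Localization.Away s) A.1]
    exact RingHom.isIntegralElem_map _
  | add x y hx hy h1 h2 => exact RingHom.IsIntegralElem.add ψ h1 h2
  | mul x y hx hy h1 h2 => exact RingHom.IsIntegralElem.mul ψ h1 h2

section model

variable {R K : Type u} [CommRing R] [CommRing K] [Algebra R K] {T P : Scheme.{u}} (π : P ⟶ T)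
  (iT : Spec (CommRingCat.of R) ⟶ T)

/-- The structure maps to `T`. -/
noncomputable abbrev toBase : schemes R K ⟶ (Functor.const _).obj T :=
  structTrans R K ≫ (Functor.const _).map iT

theorem toBase_w (s : (FG R K)ᵒᵖ) :
    (cone R K).π.app s ≫ (toBase iT).app s = Spec.map (CommRingCat.ofHom (algebraMap R K)) ≫ iT := by
  exact (Category.assoc _ _ _).symm.trans (congrArg (· ≫ iT) (structTrans_w R K s))

/-- A scheme proper and finitely presented over the base change has proper models over stages. -/
theorem exists_proper_model [QuasiCompact π] [QuasiSeparated π] {N : Scheme.{u}}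
    (ν : N ⟶ pullback π (Spec.map (CommRingCat.ofHom (algebraMap R K)) ≫ iT)) [IsProper ν]
    [LocallyOfFinitePresentation ν] :
    ∃ A : FG R K, ∀ A' : FG R K, A ≤ A' → ∃ (Q : Scheme.{u})
      (hom : Q ⟶ pullback π ((toBase iT).app (op A'))) (map : N ⟶ Q),
      IsProper hom ∧ LocallyOfFinitePresentation hom ∧
      IsPullback map ν hom
        ((Groth.Limits.bcCone (toBase iT) π (cone R K) _ (toBase_w iT)).π.app (op A')) := by
  let t := toBase (K := K) iT
  let DP := Groth.Limits.bcDiagram t π
  let cP := Groth.Limits.bcCone t π (cone R K) _ (toBase_w iT)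
  have hcP : IsLimit cP := Groth.Limits.isLimitBcCone t π (cone R K) _ (toBase_w iT) (isLimitCone R K)
  haveI : ∀ s, CompactSpace (DP.obj s) := fun s => by
    haveI : CompactSpace ((schemes R K).obj s) := inferInstance
    let ts : (schemes R K).obj s ⟶ T := t.app s
    let p := pullback.snd π ts
    haveI : QuasiCompact p := MorphismProperty.pullback_snd (P := @QuasiCompact) _ _ ‹_›
    exact (QuasiCompact.compactSpace_of_compactSpace p : CompactSpace ↥(pullback π ts))
  haveI : ∀ s, QuasiSeparatedSpace (DP.obj s) := fun s => by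
    haveI : QuasiSeparatedSpace ((schemes R K).obj s) := inferInstance
    let ts : (schemes R K).obj s ⟶ T := t.app s
    let p := pullback.snd π ts
    haveI : QuasiSeparated p := MorphismProperty.pullback_snd (P := @QuasiSeparated) _ _ ‹_›
    exact (quasiSeparatedSpace_of_quasiSeparated p : QuasiSeparatedSpace ↥(pullback π ts))
  let ν' : N ⟶ cP.pt := ν
  haveI : IsProper ν' := ‹IsProper ν›
  haveI : LocallyOfFinitePresentation ν' := ‹LocallyOfFinitePresentation ν›
  obtain ⟨i, ⟨M⟩⟩ := Groth.SpectralTopology.exists_stageModel hcP ν'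
  have : IsProper (pullback.snd M.hom (cP.π.app i)) := by
    rw [← M.sq.isoPullback_inv_snd]; infer_instance
  have : ∀ (a b : Over i) (m : a ⟶ b), IsAffineHom ((Over.forget i ⋙ DP).map m) := fun _ _ m =>
    inferInstanceAs (IsAffineHom (DP.map m.left))
  have : ∀ a : Over i, CompactSpace ↥((Over.forget i ⋙ DP).obj a) := fun a =>
    inferInstanceAs (CompactSpace ↥(DP.obj a.left))
  have : ∀ a : Over i, QuasiSeparatedSpace ↥((Over.forget i ⋙ DP).obj a) := fun a =>
    inferInstanceAs (QuasiSeparatedSpace ↥(DP.obj a.left))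
  obtain ⟨j, hj⟩ := Groth.Limits.exists_isProper_bcTrans
    ((Functor.Initial.isLimitWhiskerEquiv (Over.forget i) cP).symm hcP) (Groth.Limits.overTrans DP i)
    (cP.π.app i) (fun j => cP.w j.hom) M.hom
  have hjp : IsProper (pullback.snd M.hom (DP.map j.hom)) := hj
  let M₁ := M.pull j.hom
  have h₁ : IsProper M₁.hom := by
    show IsProper (pullback.fst (DP.map j.hom) M.hom)
    rw [← pullbackSymmetry_hom_comp_snd]; infer_instance
  refine ⟨j.left.unop, fun A' hA' => ?_⟩
  let φ : op A' ⟶ j.left := (homOfLE hA').op
  let M₂ := M₁.pull φ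
  exact ⟨M₂.obj, M₂.hom, M₂.map, MorphismProperty.pullback_fst (P := @IsProper) _ _ h₁, M₂.lfp, M₂.sq⟩

end model

end Groth.ZeroAcyclic.Proper
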